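import Cfsg.Agent.Lib.SLPresent.Steinberg

/-!
The map to the special linear group sending root elements to transvections is injective.
-/

set_option autoImplicit false

namespace CfsgLib.SLPresent

open Matrix

variable {G : Type*} [Group G] {F : Type*} [Field F] {n : ℕ}

/-- The action on column vectors through a map to the special linear group. -/
def act (φ : G →* SpecialLinearGroup (Fin n) F) (x : G) (v : Fin n → F) : Fin n → F :=
  (φ x : Matrix (Fin n) (Fin n) F) *ᵥ v

theorem act_mul (φ : G →* SpecialLinearGroup (Fin n) F) (x y : G) (v : Fin n → F) :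
    act φ (x * y) v = act φ x (act φ y v) := by
  simp [act, Matrix.mulVec_mulVec]

theorem act_one (φ : G →* SpecialLinearGroup (Fin n) F) (v : Fin n → F) : act φ 1 v = v := by
  simp [act]

theorem eq_one_of_act {x : G} (φ : G →* SpecialLinearGroup (Fin n) F) (h : φ x = 1) (v : Fin n → F) :
    act φ x v = v := by
  simp [act, h]

namespace Full

variable {X : Fin n → Fin n → F → G} {ω : F} (S : Full X ω) (φ : G →* SpecialLinearGroup (Fin n) F)
  (hφ : ∀ i j : Fin n, ∀ h : i ≠ j, ∀ a, φ (X i j a) = SpecialLinearGroup.transvection h a)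

include hφ

theorem act_x {i j : Fin n} (hij : i ≠ j) (a : F) (v : Fin n → F) :
    act φ (X i j a) v = v + Pi.single i (a * v j) := by
  rw [act, hφ i j hij a, SpecialLinearGroup.transvection_coe]
  funext k
  simp only [Matrix.add_mulVec, Matrix.one_mulVec, Pi.add_apply, add_right_inj]
  simp only [Matrix.mulVec, dotProduct, Matrix.single, Matrix.of_apply]
  rw [Finset.sum_eq_single j]
  · by_cases h : k = i
    · subst h; simp
    · simp [Ne.symm h, h]
  · intro l _ hl; simp [Ne.symm hl]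
  · simp

theorem act_w {i j : Fin n} (hij : i ≠ j) {a : F} (ha : a ≠ 0) (v : Fin n → F) (k : Fin n) :
    act φ (wEl X i j a) v k = if k = i then a * v j else if k = j then -a⁻¹ * v i else v k := by
  rw [wEl, act_mul, act_mul, act_x φ hφ hij, act_x φ hφ hij.symm, act_x φ hφ hij]
  by_cases h1 : k = i
  · subst h1
    simp [hij, hij.symm]
    field_simp
    ring
  by_cases h2 : k = j
  · subst h2
    simp [h1, hij]
    field_simp
    ring
  simp [h1, h2]

theorem act_h {i j : Fin n} (hij : i ≠ j) {a : F} (ha : a ≠ 0) (v : Fin n → F) (k : Fin n) :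
    act φ (hEl X i j a) v k = hVec i j a k * v k := by
  rw [hEl, act_mul, act_w φ hφ hij ha]
  simp only [act_w φ hφ hij (show (-1 : F) ≠ 0 by norm_num)]
  by_cases h1 : k = i
  · subst h1; simp [hVec, hij.symm]
  by_cases h2 : k = j
  · subst h2; simp [hVec, h1]
  simp [hVec, h1, h2]

include S

/-- The torus acts diagonally. -/
theorem act_torus {t : G} (ht : t ∈ S.torus) :
    ∃ d : Fin n → F, ∀ v k, act φ t v k = d k * v k := by
  refine Subgroup.closure_induction_left (p := fun t _ => ∃ d : Fin n → F, ∀ v k, act φ t v k = d k * v k)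
    ⟨1, fun v k => by simp [act_one]⟩ ?_ ?_ ht
  · rintro _ ⟨i, j, a, hij, ha, rfl⟩ y - ⟨d, hd⟩
    exact ⟨fun k => hVec i j a k * d k, fun v k => by
      rw [act_mul, act_h φ hφ hij ha, hd, mul_assoc]⟩
  · rintro _ ⟨i, j, a, hij, ha, rfl⟩ y - ⟨d, hd⟩
    exact ⟨fun k => hVec i j a⁻¹ k * d k, fun v k => by
      rw [S.h_inv hij ha, act_mul, act_h φ hφ hij (inv_ne_zero ha), hd, mul_assoc]⟩

/-- The torus is mapped injectively. -/
theorem torus_injective {t : G} (ht : t ∈ S.torus) (h : ∀ v, act φ t v = v) : t = 1 := by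
  rcases Nat.eq_zero_or_pos n with rfl | hn
  · have : S.torus ≤ ⊥ := (Subgroup.closure_le _).2 (by rintro _ ⟨i, -⟩; exact i.elim0)
    simpa using this ht
  set o : Fin n := ⟨0, hn⟩ with ho
  let Tk : ℕ → Subgroup G := fun k =>
    Subgroup.closure {g : G | ∃ (j : Fin n) (a : F), j ≠ o ∧ j.val < k ∧ a ≠ 0 ∧ g = hEl X j o a}
  have hle : ∀ k, Tk k ≤ S.torus := fun k => (Subgroup.closure_le _).2 (by
    rintro _ ⟨j, a, hj, -, ha, rfl⟩; exact S.h_mem hj ha)
  have htop : S.torus ≤ Tk n := by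
    refine (Subgroup.closure_le _).2 ?_
    rintro _ ⟨i, j, a, hij, ha, rfl⟩
    have hmem : ∀ {k : Fin n}, k ≠ o → ∀ {b : F}, b ≠ 0 → hEl X k o b ∈ Tk n := fun {k} hk {b} hb =>
      Subgroup.subset_closure ⟨k, b, hk, k.isLt, hb, rfl⟩
    by_cases hj : j = o
    · subst hj; exact hmem hij ha
    by_cases hi : i = o
    · subst hi
      rw [S.h_swap hij.symm ha]
      exact hmem hj (inv_ne_zero ha)
    rw [S.h_trans hi (Ne.symm hj) hij ha]
    refine mul_mem ?_ (hmem hi ha)
    rw [S.h_swap hj ha]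
    exact hmem hj (inv_ne_zero ha)
  suffices ∀ k, ∀ x ∈ Tk k, (∀ v, act φ x v = v) → x = 1 from this n t (htop ht) h
  intro k
  induction k with
  | zero =>
    intro x hx _
    have : Tk 0 ≤ ⊥ := (Subgroup.closure_le _).2 (by rintro _ ⟨j, a, -, hj, -⟩; omega)
    simpa using this hx
  | succ k ih =>
    intro x hx hid
    by_cases hk : k < n ∧ k ≠ 0
    swap
    · refine ih x ?_ hid
      refine (Subgroup.closure_le (K := Tk k)).2 ?_ hx
      rintro _ ⟨j, a, hj, hjk, ha, rfl⟩
      refine Subgroup.subset_closure ⟨j, a, hj, ?_, ha, rfl⟩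
      rcases (Nat.lt_succ_iff.1 hjk).lt_or_eq with h1 | h1
      · exact h1
      · exfalso
        have := j.isLt
        have : j.val ≠ 0 := fun e => hj (Fin.ext e)
        exact hk ⟨by omega, by omega⟩
    set K : Fin n := ⟨k, hk.1⟩ with hK
    have hKo : K ≠ o := fun e => hk.2 (congrArg Fin.val e)
    obtain ⟨a, ha, y, hy, rfl⟩ : ∃ a : F, a ≠ 0 ∧ ∃ y ∈ Tk k, x = hEl X K o a * y := by
      refine Subgroup.closure_induction_left (p := fun x _ => ∃ a : F, a ≠ 0 ∧ ∃ y ∈ Tk k,
        x = hEl X K o a * y) ⟨1, one_ne_zero, 1, one_mem _, by rw [S.h_one hKo, mul_one]⟩ ?_ ?_ hx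
      all_goals rintro _ ⟨j, b, hj, hjk, hb, rfl⟩ z - ⟨a, ha, y, hy, rfl⟩
      all_goals by_cases hjK : j = K
      · subst hjK
        exact ⟨b * a, mul_ne_zero hb ha, y, hy, by rw [S.h_mul hKo hb ha, mul_assoc]⟩
      · refine ⟨a, ha, hEl X j o b * y, mul_mem (Subgroup.subset_closure ⟨j, b, hj, ?_, hb, rfl⟩) hy, ?_⟩
        · have : j.val ≠ k := fun e => hjK (Fin.ext e)
          omega
        · rw [← mul_assoc, ← mul_assoc, (S.h_commute hj hKo hb ha).eq]
      · subst hjK
        exact ⟨b⁻¹ * a, mul_ne_zero (inv_ne_zero hb) ha, y, hy, by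
          rw [S.h_mul hKo (inv_ne_zero hb) ha, S.h_inv hKo hb, mul_assoc]⟩
      · refine ⟨a, ha, (hEl X j o b)⁻¹ * y,
          mul_mem (inv_mem (Subgroup.subset_closure ⟨j, b, hj, ?_, hb, rfl⟩)) hy, ?_⟩
        · have : j.val ≠ k := fun e => hjK (Fin.ext e)
          omega
        · rw [← mul_assoc, ← mul_assoc, ((S.h_commute hj hKo hb ha).inv_left).eq]
    have hfix : ∀ v, act φ y v K = v K := by
      intro v
      refine Subgroup.closure_induction_left (p := fun z _ => ∀ v, act φ z v K = v K)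
        (fun v => by rw [act_one]) ?_ ?_ hy v
      all_goals rintro _ ⟨j, b, hj, hjk, hb, rfl⟩ z - ih v
      all_goals have hjK : K ≠ j := fun e => by rw [← e] at hjk; exact lt_irrefl _ hjk
      · rw [act_mul, act_h φ hφ hj hb, ih]; simp [hVec, hjK, hKo]
      · rw [S.h_inv hj hb, act_mul, act_h φ hφ hj (inv_ne_zero hb), ih]; simp [hVec, hjK, hKo]
    have h1 := congrFun (hid (Pi.single K 1)) K
    rw [act_mul, act_h φ hφ hKo ha, hfix] at h1
    simp only [hVec, if_true, Pi.single_eq_same, mul_one] at h1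
    subst h1
    rw [S.h_one hKo, one_mul] at hid ⊢
    exact ih y hy hid

/-- The monomial elements on the indices below `m` keep the lines of the others. -/
theorem mono_fix {m : ℕ} {x : G} (hx : x ∈ S.mono m) {M : Fin n} (hM : m ≤ M.val) :
    ∃ c, act φ x (Pi.single M 1) = Pi.single M c := by
  refine Subgroup.closure_induction_left (p := fun x _ => ∃ c, act φ x (Pi.single M 1) = Pi.single M c)
    ⟨1, act_one φ _⟩ ?_ ?_ hx
  all_goals rintro s hs y - ⟨c, hc⟩
  all_goals rw [act_mul, hc]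
  all_goals rcases hs with hs | ⟨i, j, hi, hj, hij, rfl⟩
  · obtain ⟨d, hd⟩ := act_torus S φ hφ hs
    exact ⟨d M * c, funext fun k => by
      rw [hd]; by_cases h : k = M
      · subst h; simp
      · simp [h]⟩
  · refine ⟨c, funext fun k => ?_⟩
    have h1 : i ≠ M := fun e => by rw [e] at hi; omega
    have h2 : j ≠ M := fun e => by rw [e] at hj; omega
    rw [act_w φ hφ hij one_ne_zero]
    split_ifs with h3 h4
    · subst h3; simp [h1, h2]
    · subst h4; simp [h1, h2]
    · rfl
  · obtain ⟨d, hd⟩ := act_torus S φ hφ (inv_mem hs)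
    exact ⟨d M * c, funext fun k => by
      rw [hd]; by_cases h : k = M
      · subst h; simp
      · simp [h]⟩
  · refine ⟨c, funext fun k => ?_⟩
    have h1 : i ≠ M := fun e => by rw [e] at hi; omega
    have h2 : j ≠ M := fun e => by rw [e] at hj; omega
    rw [← S.w_neg hij, act_w φ hφ hij (by norm_num)]
    split_ifs with h3 h4
    · subst h3; simp [h1, h2]
    · subst h4; simp [h1, h2]
    · rfl

/-- An element of the monomial subgroup outside the torus has a zero on the diagonal. -/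
theorem mono_diag : ∀ m, m ≤ n → ∀ x ∈ S.mono m,
    x ∈ S.torus ∨ ∃ M, act φ x (Pi.single M 1) M = 0 := by
  intro m hm x hx
  induction m generalizing x with
  | zero =>
    refine Or.inl ((Subgroup.closure_le _).2 ?_ hx)
    rintro s (hs | ⟨i, j, hi, -⟩)
    · exact hs
    · omega
  | succ m ih =>
    rcases S.mono_succ (Nat.lt_of_succ_le hm) hx with hx' | ⟨i, hi, y, hy, rfl⟩
    · exact ih (Nat.le_of_succ_le hm) x hx'
    · refine Or.inr ⟨⟨m, Nat.lt_of_succ_le hm⟩, ?_⟩
      have hiM : i ≠ ⟨m, Nat.lt_of_succ_le hm⟩ := fun e => by rw [e] at hi; exact lt_irrefl _ hi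
      obtain ⟨c, hc⟩ := mono_fix S φ hφ hy (M := ⟨m, Nat.lt_of_succ_le hm⟩) le_rfl
      rw [act_mul, hc, act_w φ hφ hiM one_ne_zero, if_neg hiM.symm, if_pos rfl]
      simp [hiM]

/-- Elements of the positive unipotent subgroup are unitriangular. -/
theorem upper_act {x : G} (hx : x ∈ S.upper) (k : Fin n) (v : Fin n → F)
    (hv : ∀ l, k < l → v l = 0) : ∀ l, k ≤ l → act φ x v l = v l := by
  revert v
  refine Subgroup.closure_induction_left (p := fun x _ => ∀ v : Fin n → F, (∀ l, k < l → v l = 0) →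
    ∀ l, k ≤ l → act φ x v l = v l) (fun v _ l _ => by rw [act_one]) ?_ ?_ hx
  · rintro _ ⟨i, j, a, hij, hlt, rfl⟩ y - ih v hv l hl
    rw [act_mul, act_x φ hφ hij]
    simp only [Pi.add_apply]
    rw [ih v hv l hl]
    by_cases h : l = i
    · subst h
      have hkj : k < j := lt_of_le_of_lt hl hlt
      rw [ih v hv j hkj.le, hv j hkj]
      simp
    · simp [h]
  · rintro _ ⟨i, j, a, hij, hlt, rfl⟩ y - ih v hv l hl
    rw [← S.neg hij, act_mul, act_x φ hφ hij]
    simp only [Pi.add_apply]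
    rw [ih v hv l hl]
    by_cases h : l = i
    · subst h
      have hkj : k < j := lt_of_le_of_lt hl hlt
      rw [ih v hv j hkj.le, hv j hkj]
      simp
    · simp [h]

/-- One column of the positive unipotent subgroup is mapped injectively. -/
theorem column_injective (J : Fin n) : ∀ k : ℕ,
    ∀ x ∈ S.rootsGroup (fun i j => i < j ∧ j = J ∧ i.val < k),
      (∀ v, ∀ l : Fin n, (k ≤ l.val ∨ l = J) → act φ x v l = v l) ∧
        (act φ x (Pi.single J 1) = Pi.single J 1 → x = 1) := by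
  have hkeep : ∀ k : ℕ, ∀ x ∈ S.rootsGroup (fun i j => i < j ∧ j = J ∧ i.val < k),
      ∀ v, ∀ l : Fin n, (k ≤ l.val ∨ l = J) → act φ x v l = v l := by
    intro k x hx
    refine Subgroup.closure_induction_left (p := fun x _ => ∀ v, ∀ l : Fin n, (k ≤ l.val ∨ l = J) →
      act φ x v l = v l) (fun v l _ => by rw [act_one]) ?_ ?_ hx
    all_goals rintro _ ⟨i, j, a, hij, ⟨hlt, hjJ, hik⟩, rfl⟩ y - ih v l hl
    all_goals subst hjJ
    all_goals have hli : l ≠ i := fun e => hl.elim (fun h => by rw [e] at h; omega) (fun h => hij (e.symm.trans h))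
    · rw [act_mul, act_x φ hφ hij]; simp [hli, ih v l hl]
    · rw [← S.neg hij, act_mul, act_x φ hφ hij]; simp [hli, ih v l hl]
  intro k x hx
  refine ⟨hkeep k x hx, ?_⟩
  induction k generalizing x with
  | zero =>
    intro _
    have : S.rootsGroup (fun i j => i < j ∧ j = J ∧ i.val < 0) ≤ ⊥ :=
      (Subgroup.closure_le _).2 (by rintro _ ⟨i, j, a, -, ⟨-, -, h⟩, -⟩; omega)
    simpa using this hx
  | succ k ih =>
    intro hid
    by_cases hk : k < J.val
    swap
    · refine ih x ((Subgroup.closure_le (K := S.rootsGroup _)).2 ?_ hx) hid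
      rintro _ ⟨i, j, a, hij, ⟨hlt, hjJ, hik⟩, rfl⟩
      refine S.x_mem (P := fun i j => i < j ∧ j = J ∧ i.val < k) hij ⟨hlt, hjJ, ?_⟩ a
      rw [Fin.lt_def] at hlt
      subst hjJ
      omega
    set K : Fin n := ⟨k, hk.trans J.isLt⟩ with hK
    have hKJ : K < J := hk
    let Q : Fin n → Fin n → Prop := fun i j => i < j ∧ j = J ∧ i.val < k
    obtain ⟨a, y, hy, rfl⟩ : ∃ a, ∃ y ∈ S.rootsGroup Q, x = X K J a * y := by
      have hgen : ∀ i, i < J → i.val < k + 1 → ∀ b, ∀ z, (∃ a, ∃ y ∈ S.rootsGroup Q, z = X K J a * y) →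
          ∃ a, ∃ y ∈ S.rootsGroup Q, X i J b * z = X K J a * y := by
        rintro i hiJ hik b z ⟨a, y, hy, rfl⟩
        by_cases hiK : i = K
        · subst hiK
          exact ⟨b + a, y, hy, by rw [S.add hKJ.ne, mul_assoc]⟩
        · have : i.val ≠ k := fun e => hiK (Fin.ext e)
          exact ⟨a, X i J b * y, mul_mem (S.x_mem (P := Q) hiJ.ne ⟨hiJ, rfl, by omega⟩ b) hy, by
            rw [← mul_assoc, ← mul_assoc, (S.comm hiJ.ne hKJ.ne hKJ.ne' hiJ.ne b a).eq]⟩
      refine Subgroup.closure_induction_left (p := fun x _ => ∃ a, ∃ y ∈ S.rootsGroup Q, x = X K J a * y)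
        ⟨0, 1, one_mem _, by rw [S.zero hKJ.ne, mul_one]⟩ ?_ ?_ hx
      · rintro _ ⟨i, j, b, hij, ⟨hlt, hjJ, hik⟩, rfl⟩ z - hz
        subst hjJ
        exact hgen i hlt hik b z hz
      · rintro _ ⟨i, j, b, hij, ⟨hlt, hjJ, hik⟩, rfl⟩ z - hz
        subst hjJ
        rw [← S.neg hij]
        exact hgen i hlt hik (-b) z hz
    have h1 := congrFun hid K
    rw [act_mul, act_x φ hφ hKJ.ne, Pi.add_apply, hkeep k y hy _ K (Or.inl le_rfl), Pi.single_eq_same,
      hkeep k y hy _ J (Or.inr rfl), Pi.single_eq_same, mul_one, Pi.single_eq_of_ne hKJ.ne, zero_add] at h1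
    subst h1
    rw [S.zero hKJ.ne, one_mul] at hid ⊢
    exact ih y hy hid

/-- The positive unipotent subgroup is mapped injectively. -/
theorem upper_injective {x : G} (hx : x ∈ S.upper) (h : ∀ v, act φ x v = v) : x = 1 := by
  suffices ∀ m, ∀ x ∈ S.rootsGroup (fun i j => i < j ∧ j.val < m), (∀ v, act φ x v = v) → x = 1 by
    refine this n x ((Subgroup.closure_le (K := S.rootsGroup _)).2 ?_ hx) h
    rintro _ ⟨i, j, a, hij, hlt, rfl⟩
    exact S.x_mem (P := fun i j => i < j ∧ j.val < n) hij ⟨hlt, j.isLt⟩ a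
  intro m
  induction m with
  | zero =>
    intro x hx _
    have : S.rootsGroup (fun i j => i < j ∧ j.val < 0) ≤ ⊥ :=
      (Subgroup.closure_le _).2 (by rintro _ ⟨i, j, a, -, ⟨-, h⟩, -⟩; omega)
    simpa using this hx
  | succ m ih =>
    intro x hx hid
    by_cases hm : m < n
    swap
    · refine ih x ((Subgroup.closure_le (K := S.rootsGroup _)).2 ?_ hx) hid
      rintro _ ⟨i, j, a, hij, ⟨hlt, -⟩, rfl⟩
      exact S.x_mem (P := fun i j => i < j ∧ j.val < m) hij ⟨hlt, by omega⟩ a
    set J : Fin n := ⟨m, hm⟩ with hJ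
    let Q : Fin n → Fin n → Prop := fun i j => i < j ∧ j.val < m
    let A : Fin n → Fin n → Prop := fun i j => i < j ∧ j = J ∧ i.val < n
    have hnorm : ∀ i j : Fin n, i < j → j.val < m → ∀ b, ∀ z ∈ S.rootsGroup A,
        MulAut.conj (X i j b) z ∈ S.rootsGroup A := by
      intro i j hlt hjm b z hz
      have : S.rootsGroup A ≤ (S.rootsGroup A).comap (MulAut.conj (X i j b)).toMonoidHom := by
        refine (Subgroup.closure_le _).2 ?_
        rintro _ ⟨k, l, c, hkl, ⟨hk, hlJ, hkn⟩, rfl⟩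
        subst hlJ
        show MulAut.conj (X i j b) (X k J c) ∈ S.rootsGroup A
        have hij : i ≠ j := hlt.ne
        have hiJ : i < J := lt_trans hlt hjm
        by_cases h1 : j = k
        · subst h1
          rw [S.head hij hkl hiJ.ne]
          exact mul_mem (S.x_mem (P := A) hiJ.ne ⟨hiJ, rfl, i.isLt⟩ _)
            (S.x_mem (P := A) hkl ⟨hk, rfl, hkn⟩ c)
        · rw [S.fix hij hkl h1 hiJ.ne]
          exact S.x_mem (P := A) hkl ⟨hk, rfl, hkn⟩ c
      exact this hz
    obtain ⟨z, hz, y, hy, rfl⟩ : ∃ z ∈ S.rootsGroup A, ∃ y ∈ S.rootsGroup Q, x = z * y := by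
      have hgen : ∀ i j : Fin n, i < j → j.val < m + 1 → ∀ b, ∀ w, (∃ z ∈ S.rootsGroup A,
          ∃ y ∈ S.rootsGroup Q, w = z * y) → ∃ z ∈ S.rootsGroup A, ∃ y ∈ S.rootsGroup Q,
            X i j b * w = z * y := by
        rintro i j hlt hjm b w ⟨z, hz, y, hy, rfl⟩
        rcases (Nat.lt_succ_iff.1 hjm).lt_or_eq with h | h
        · exact ⟨_, hnorm i j hlt h b z hz, X i j b * y,
            mul_mem (S.x_mem (P := Q) hlt.ne ⟨hlt, h⟩ b) hy, by rw [MulAut.conj_apply]; group⟩
        · obtain rfl : j = J := Fin.ext h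
          exact ⟨X i J b * z, mul_mem (S.x_mem (P := A) hlt.ne ⟨hlt, rfl, i.isLt⟩ b) hz, y, hy,
            (mul_assoc _ _ _).symm⟩
      refine Subgroup.closure_induction_left (p := fun x _ => ∃ z ∈ S.rootsGroup A,
        ∃ y ∈ S.rootsGroup Q, x = z * y) ⟨1, one_mem _, 1, one_mem _, (one_mul _).symm⟩ ?_ ?_ hx
      · rintro _ ⟨i, j, b, hij, ⟨hlt, hjm⟩, rfl⟩ w - hw
        exact hgen i j hlt hjm b w hw
      · rintro _ ⟨i, j, b, hij, ⟨hlt, hjm⟩, rfl⟩ w - hw
        rw [← S.neg hij]
        exact hgen i j hlt hjm (-b) w hw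
    have hfix : act φ y (Pi.single J 1) = Pi.single J 1 := by
      refine Subgroup.closure_induction_left (p := fun y _ => act φ y (Pi.single J 1) = Pi.single J 1)
        (act_one φ _) ?_ ?_ hy
      all_goals rintro _ ⟨i, j, b, hij, ⟨-, hjm⟩, rfl⟩ w - hw
      all_goals have hjJ : j ≠ J := fun e => by rw [e] at hjm; exact lt_irrefl _ hjm
      · rw [act_mul, hw, act_x φ hφ hij]; simp [hjJ]
      · rw [← S.neg hij, act_mul, hw, act_x φ hφ hij]; simp [hjJ]
    have hz1 : z = 1 := by
      refine ((column_injective S φ hφ J n) z hz).2 ?_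
      have := hid (Pi.single J 1)
      rwa [act_mul, hfix] at this
    subst hz1
    rw [one_mul] at hid ⊢
    exact ih y hy hid

/-- The map is injective. -/
theorem injective : Function.Injective φ := by
  refine (injective_iff_map_eq_one φ).2 fun x hx => ?_
  obtain ⟨u, hu, m, hm, v, hv, rfl⟩ := S.bruhat x
  have hm' : m = u⁻¹ * (u * m * v) * v⁻¹ := by group
  have hact : ∀ w, act φ m w = act φ u⁻¹ (act φ v⁻¹ w) := fun w => by
    rw [hm', act_mul, act_mul, eq_one_of_act φ hx]
  have hdiag : ∀ M, act φ m (Pi.single M 1) M = 1 := by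
    intro M
    have hzero : ∀ l, M < l → (Pi.single M (1 : F) : Fin n → F) l = 0 := fun l hl =>
      Pi.single_eq_of_ne hl.ne' _
    have h1 := upper_act S φ hφ (inv_mem hv) M _ hzero
    rw [hact, upper_act S φ hφ (inv_mem hu) M _ (fun l hl => by rw [h1 l hl.le]; exact hzero l hl) M le_rfl,
      h1 M le_rfl, Pi.single_eq_same]
  have hmT : m ∈ S.torus := by
    rcases mono_diag S φ hφ n le_rfl m hm with h | ⟨M, h⟩
    · exact h
    · rw [hdiag] at h; exact absurd h one_ne_zero
  obtain ⟨d, hd⟩ := act_torus S φ hφ hmT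
  have hm1 : m = 1 := by
    refine torus_injective S φ hφ hmT fun w => funext fun k => ?_
    have h1 := hdiag k
    rw [hd, Pi.single_eq_same, mul_one] at h1
    rw [hd, h1, one_mul]
  subst hm1
  rw [mul_one] at hx ⊢
  exact upper_injective S φ hφ (mul_mem hu hv) (eq_one_of_act φ hx)

end Full

end CfsgLib.SLPresent
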