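import Cfsg.Agent.Lib.SLPresent.Spread
import Cfsg.Agent.Lib.SLTwoPresent.Word
import Cfsg.Agent.Classical.SLGen

/-!
Even permutation matrices, diagonal matrices and transvections in the special linear group.
-/

set_option autoImplicit false

namespace CfsgLib.SLPresent

open Equiv Matrix

variable {F : Type*} [Field F] {n : ℕ}

local notation "SL" => Matrix.SpecialLinearGroup (Fin n) F
local notation "tv" => Matrix.SpecialLinearGroup.transvection

theorem sl_ext {A B : Matrix.SpecialLinearGroup (Fin n) F}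
    (h : (A : Matrix (Fin n) (Fin n) F) = (B : Matrix (Fin n) (Fin n) F)) : A = B := Subtype.ext h

/-- The matrix of an even permutation. -/
def pm : alternatingGroup (Fin n) →* SL where
  toFun σ := ⟨(σ : Perm (Fin n))⁻¹.permMatrix F, by
    rw [Matrix.det_permutation, Perm.sign_inv, Perm.mem_alternatingGroup.1 σ.2]; simp⟩
  map_one' := sl_ext (by simp)
  map_mul' σ τ := sl_ext (by
    show ((σ : Perm (Fin n)) * τ)⁻¹.permMatrix F =
      (σ : Perm (Fin n))⁻¹.permMatrix F * (τ : Perm (Fin n))⁻¹.permMatrix F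
    rw [_root_.mul_inv_rev, permMatrix_mul])

theorem pm_coe (σ : alternatingGroup (Fin n)) :
    ((pm σ : SL) : Matrix (Fin n) (Fin n) F) = (σ : Perm (Fin n))⁻¹.permMatrix F := rfl

theorem pm_conj_coe (σ : alternatingGroup (Fin n)) (A : SL) :
    ((MulAut.conj (pm σ) A : SL) : Matrix (Fin n) (Fin n) F) =
      (A : Matrix (Fin n) (Fin n) F).submatrix ⇑((σ : Perm (Fin n))⁻¹) ⇑((σ : Perm (Fin n))⁻¹) := by
  rw [MulAut.conj_apply, ← map_inv, Matrix.SpecialLinearGroup.coe_mul, Matrix.SpecialLinearGroup.coe_mul, pm_coe,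
    pm_coe, Subgroup.coe_inv, inv_inv, PEquiv.toMatrix_toPEquiv_mul, PEquiv.mul_toMatrix_toPEquiv,
    Matrix.submatrix_submatrix]
  rfl

theorem pm_tv (σ : alternatingGroup (Fin n)) {i j : Fin n} (hij : i ≠ j) (a : F) :
    MulAut.conj (pm σ) (tv hij a) = tv ((σ : Perm (Fin n)).injective.ne hij) a := by
  refine sl_ext (Matrix.ext fun x y => ?_)
  rw [pm_conj_coe]
  simp [Matrix.SpecialLinearGroup.transvection_coe, Matrix.one_apply, Matrix.single_apply, Perm.inv_def,
    Equiv.eq_symm_apply]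

/-- The diagonal matrix with two entries `a` and `a⁻¹`. -/
noncomputable def dg (i j : Fin n) (hij : i ≠ j) (a : Fˣ) : SL :=
  Matrix.SpecialLinearGroup.diag2n hij (a : F) a.ne_zero

theorem dg_coe {i j : Fin n} (hij : i ≠ j) (a : Fˣ) :
    (dg i j hij a : Matrix (Fin n) (Fin n) F) = diagonal (hVec i j (a : F)) := rfl

theorem pm_dg (σ : alternatingGroup (Fin n)) {i j : Fin n} (hij : i ≠ j) (a : Fˣ) :
    MulAut.conj (pm σ) (dg i j hij a) = dg _ _ ((σ : Perm (Fin n)).injective.ne hij) a := by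
  refine sl_ext ?_
  rw [pm_conj_coe, dg_coe, dg_coe, Matrix.submatrix_diagonal_equiv]
  congr 1
  funext k
  simp [hVec, Perm.inv_def, Equiv.symm_apply_eq]

theorem dg_tv {i j k l : Fin n} (hij : i ≠ j) (hkl : k ≠ l) (a : Fˣ) (b : F) :
    MulAut.conj (dg i j hij a) (tv hkl b) =
      tv hkl (hVec i j (a : F) k / hVec i j (a : F) l * b) := by
  rw [MulAut.conj_apply, mul_inv_eq_iff_eq_mul]
  refine sl_ext (Matrix.ext fun x y => ?_)
  have hl := hVec_ne (i := i) (j := j) a.ne_zero l
  simp only [Matrix.SpecialLinearGroup.coe_mul, dg_coe, Matrix.SpecialLinearGroup.transvection_coe,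
    Matrix.diagonal_mul, Matrix.mul_diagonal, Matrix.add_apply, Matrix.one_apply, Matrix.single_apply]
  by_cases hxy : x = y
  · subst hxy
    rw [if_pos rfl, if_neg (fun h => hkl (h.1.trans h.2.symm)), if_neg (fun h => hkl (h.1.trans h.2.symm))]
    ring
  · rw [if_neg hxy]
    by_cases h : k = x ∧ l = y
    · rw [if_pos h, if_pos h, ← h.1, ← h.2]
      field_simp
      ring
    · rw [if_neg h, if_neg h]; ring

theorem dg_inv {i j : Fin n} (hij : i ≠ j) (a : Fˣ) : (dg i j hij a)⁻¹ = dg j i hij.symm a := by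
  refine inv_eq_of_mul_eq_one_right (sl_ext ?_)
  rw [Matrix.SpecialLinearGroup.coe_mul, dg_coe, dg_coe, diagonal_mul_diagonal, Matrix.SpecialLinearGroup.coe_one,
    ← diagonal_one]
  congr 1
  funext k
  have := a.ne_zero
  by_cases h1 : k = i
  · subst h1; simp [hVec, hij]
  by_cases h2 : k = j
  · subst h2; simp [hVec, hij.symm]
  simp [hVec, h1, h2]

theorem dg_commute {i j k l : Fin n} (hij : i ≠ j) (hkl : k ≠ l) (a b : Fˣ) :
    Commute (dg i j hij a) (dg k l hkl b) := by
  refine sl_ext ?_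
  rw [Matrix.SpecialLinearGroup.coe_mul, Matrix.SpecialLinearGroup.coe_mul, dg_coe, dg_coe, diagonal_mul_diagonal,
    diagonal_mul_diagonal]
  congr 1
  funext m
  exact mul_comm _ _

theorem dg_pow {i j : Fin n} (hij : i ≠ j) (a : Fˣ) : ∀ k : ℕ,
    dg i j hij a ^ k = dg i j hij (a ^ k)
  | 0 => by
    refine sl_ext ?_
    rw [pow_zero, pow_zero, Matrix.SpecialLinearGroup.coe_one, dg_coe, ← diagonal_one]
    congr 1
    funext m
    simp [hVec]
  | k + 1 => by
    refine sl_ext ?_
    rw [pow_succ, dg_pow hij a k, Matrix.SpecialLinearGroup.coe_mul, dg_coe, dg_coe, dg_coe,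
      diagonal_mul_diagonal]
    congr 1
    funext m
    simp only [hVec]
    split_ifs <;> simp [pow_succ, mul_comm]

theorem dg_tri {i j k : Fin n} (hij : i ≠ j) (hjk : j ≠ k) (hki : k ≠ i) (a : Fˣ) :
    dg i j hij a * dg j k hjk a * dg k i hki a = 1 := by
  refine sl_ext ?_
  rw [Matrix.SpecialLinearGroup.coe_mul, Matrix.SpecialLinearGroup.coe_mul, dg_coe, dg_coe, dg_coe,
    diagonal_mul_diagonal, diagonal_mul_diagonal, Matrix.SpecialLinearGroup.coe_one, ← diagonal_one]
  congr 1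
  funext m
  have := a.ne_zero
  by_cases h1 : m = i
  · subst h1; simp [hVec, hij, hki.symm]
  by_cases h2 : m = j
  · subst h2; simp [hVec, hij.symm, hjk]
  by_cases h3 : m = k
  · subst h3; simp [hVec, hki, hjk.symm]
  simp [hVec, h1, h2, h3]

theorem dg_one {i j : Fin n} (hij : i ≠ j) : dg i j hij (1 : Fˣ) = 1 := by
  simpa using (dg_pow hij (1 : Fˣ) 0).symm

theorem tv_commute {i j k l : Fin n} (hij : i ≠ j) (hkl : k ≠ l) (hjk : j ≠ k) (hil : i ≠ l)
    (a b : F) : Commute (tv hij a) (tv hkl b) := by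
  refine sl_ext ?_
  simp [Matrix.SpecialLinearGroup.transvection_coe, mul_add, add_mul, single_mul_single_of_ne, hjk,
    hil.symm, add_assoc, add_comm, add_left_comm]

theorem tv_form {i j k : Fin n} (hij : i ≠ j) (hjk : j ≠ k) (hik : i ≠ k) (a b : F) :
    tv hij a * tv hjk b = tv hik (a * b) * tv hjk b * tv hij a := by
  refine sl_ext ?_
  simp [Matrix.SpecialLinearGroup.transvection_coe, mul_add, add_mul, single_mul_single_of_ne, hij, hij.symm,
    hjk, hjk.symm, hik, hik.symm]
  abel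

theorem tv_pow {i j : Fin n} (hij : i ≠ j) (a : F) : ∀ k : ℕ, tv hij a ^ k = tv hij ((k : F) * a)
  | 0 => by simp
  | k + 1 => by
    rw [pow_succ, tv_pow hij a k, ← Matrix.SpecialLinearGroup.transvection_add]
    congr 1
    push_cast
    ring

/-- The signed identity for the three-cycle. -/
theorem cyc_eq (hn : 4 ≤ n) :
    (pm (cyc hn) : SL) = (tv (idx_ne hn (show (0 : Fin 4) ≠ 1 by decide)) (-1) *
        tv (idx_ne hn (show (1 : Fin 4) ≠ 0 by decide)) 1 *
        tv (idx_ne hn (show (0 : Fin 4) ≠ 1 by decide)) (-1)) *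
      (tv (idx_ne hn (show (1 : Fin 4) ≠ 2 by decide)) (-1) *
        tv (idx_ne hn (show (2 : Fin 4) ≠ 1 by decide)) 1 *
        tv (idx_ne hn (show (1 : Fin 4) ≠ 2 by decide)) (-1)) := by
  have h01 := idx_ne hn (show (0 : Fin 4) ≠ 1 by decide)
  have h12 := idx_ne hn (show (1 : Fin 4) ≠ 2 by decide)
  have h02 := idx_ne hn (show (0 : Fin 4) ≠ 2 by decide)
  have e : ∀ (i j : Fin n) (h : i ≠ j), (-1 : F) = -(1 : F)⁻¹ := by simp
  have w : ∀ {i j : Fin n} (h : i ≠ j),
      ((tv h (-1 : F) * tv h.symm 1 * tv h (-1) : SL) : Matrix (Fin n) (Fin n) F) =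
      1 + single i j (-1) + single j i 1 + single i i (-1) + single j j (-1) := by
    intro i j h
    have := Cfsg.Agent.Classical.slWeyl_coe (F := F) h (-1) (by simp)
    simpa using this
  refine sl_ext ?_
  rw [Matrix.SpecialLinearGroup.coe_mul, w h01, w h12]
  obtain ⟨c0, c1, c2⟩ := cyc_apply hn
  have hcfix : ∀ y : Fin n, y ≠ idx hn 0 → y ≠ idx hn 1 → y ≠ idx hn 2 →
      (cyc hn : Perm (Fin n)) y = y := fun y h1 h2 h3 => by
    show swap _ _ (swap _ _ y) = y
    rw [swap_apply_of_ne_of_ne h2 h3, swap_apply_of_ne_of_ne h1 h2]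
  simp only [mul_add, add_mul, one_mul, mul_one, single_mul_single_same, ne_eq, h01, h01.symm, h12,
    h12.symm, h02, h02.symm, not_false_iff, single_mul_single_of_ne, add_zero, zero_add]
  ext x y
  rw [pm_coe]
  simp only [PEquiv.toMatrix_apply, Equiv.toPEquiv_apply, Option.mem_def, Option.some.injEq,
    Perm.inv_def, Equiv.symm_apply_eq, Matrix.add_apply, Matrix.one_apply, Matrix.single_apply]
  by_cases y0 : y = idx hn 0
  · subst y0
    rw [c0]
    by_cases x0 : x = idx hn 0
    · subst x0; simp [h01, h01.symm, h02, h02.symm, h12, h12.symm]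
    by_cases x1 : x = idx hn 1
    · subst x1; simp [h01, h01.symm, h02, h02.symm, h12, h12.symm]
    by_cases x2 : x = idx hn 2
    · subst x2; simp [h01, h01.symm, h02, h02.symm, h12, h12.symm]
    simp [h01, h01.symm, h02, h02.symm, h12, h12.symm, x0, x1, x2, Ne.symm x0, Ne.symm x1, Ne.symm x2]
  by_cases y1 : y = idx hn 1
  · subst y1
    rw [c1]
    by_cases x0 : x = idx hn 0
    · subst x0; simp [h01, h01.symm, h02, h02.symm, h12, h12.symm]
    by_cases x1 : x = idx hn 1
    · subst x1; simp [h01, h01.symm, h02, h02.symm, h12, h12.symm]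
    by_cases x2 : x = idx hn 2
    · subst x2; simp [h01, h01.symm, h02, h02.symm, h12, h12.symm]
    simp [h01, h01.symm, h02, h02.symm, h12, h12.symm, x0, x1, x2, Ne.symm x0, Ne.symm x1, Ne.symm x2]
  by_cases y2 : y = idx hn 2
  · subst y2
    rw [c2]
    by_cases x0 : x = idx hn 0
    · subst x0; simp [h01, h01.symm, h02, h02.symm, h12, h12.symm]
    by_cases x1 : x = idx hn 1
    · subst x1; simp [h01, h01.symm, h02, h02.symm, h12, h12.symm]
    by_cases x2 : x = idx hn 2
    · subst x2; simp [h01, h01.symm, h02, h02.symm, h12, h12.symm]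
    simp [h01, h01.symm, h02, h02.symm, h12, h12.symm, x0, x1, x2, Ne.symm x0, Ne.symm x1, Ne.symm x2]
  rw [hcfix y y0 y1 y2]
  simp [Ne.symm y0, Ne.symm y1, Ne.symm y2]

theorem word_tv {p : ℕ} [NeZero p] [Algebra (ZMod p) F] {i j : Fin n} (hij : i ≠ j) (g : SL) (y : F)
    (hg : ∀ t, MulAut.conj g (tv hij t) = tv hij (y * t)) (Q : Polynomial (ZMod p)) :
    SLTwoPresent.word (tv hij (1 : F)) g Q = tv hij (Polynomial.aeval y Q) := by
  rw [SLTwoPresent.word_eq (LinearMap.mulLeft (ZMod p) y) (fun t => tv hij t)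
    (Matrix.SpecialLinearGroup.transvection_add hij) g hg 1 Q,
    show LinearMap.mulLeft (ZMod p) y = Algebra.lmul (ZMod p) F y from rfl,
    Polynomial.aeval_algHom_apply]
  simp

end CfsgLib.SLPresent
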