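import Cfsg.Agent.Lib.SLPresent.Relations
import Cfsg.Agent.Lib.SLPresent.Target
import Cfsg.Agent.Lib.SLPresent.Injective
import Cfsg.Agent.Lib.SLTwoPresent.Arith
import Cfsg.Agent.Lib.SLTwoPresent.Odd
import Cfsg.Agent.Lib.SymPresent.Tietze

/-!
Presentations of `SL_n` from presentations of the alternating group.
-/

set_option autoImplicit false

namespace CfsgLib.SLPresent

open Equiv Polynomial SLTwoPresent SymPresent

variable {F : Type*} [Field F] {n : ℕ}

local notation "SL" => Matrix.SpecialLinearGroup (Fin n) F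
local notation "tv" => Matrix.SpecialLinearGroup.transvection

theorem pm_tv_to (σ : alternatingGroup (Fin n)) {i j i' j' : Fin n} (hij : i ≠ j) (h' : i' ≠ j')
    (hi : (σ : Perm (Fin n)) i = i') (hj : (σ : Perm (Fin n)) j = j') (a : F) :
    cj (fun σ => (pm σ : SL)) σ (tv hij a) = tv h' a := by
  subst hi hj; exact pm_tv σ hij a

theorem pm_dg_to (σ : alternatingGroup (Fin n)) {i j i' j' : Fin n} (hij : i ≠ j) (h' : i' ≠ j')
    (hi : (σ : Perm (Fin n)) i = i') (hj : (σ : Perm (Fin n)) j = j') (a : Fˣ) :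
    cj (fun σ => (pm σ : SL)) σ (dg i j hij a) = dg i' j' h' a := by
  subst hi hj; exact pm_dg σ hij a

/-- The image of the root generator. -/
def uT (hn : 4 ≤ n) : SL := tv (idx_ne hn (show (0 : Fin 4) ≠ 1 by decide)) (1 : F)

/-- The image of the torus generator. -/
noncomputable def hT (hn : 4 ≤ n) (ω : Fˣ) : SL :=
  dg _ _ (idx_ne hn (show (0 : Fin 4) ≠ 1 by decide)) ω

theorem twoSwap_apply {a b c d : Fin n} (hab : a ≠ b) (hcd : c ≠ d) (x : Fin n) :
    (twoSwap hab hcd : Perm (Fin n)) x = swap a b (swap c d x) := rfl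

theorem exists_stab_move (hn : 4 ≤ n) (h : 4 < n) :
    ∃ τ : alternatingGroup (Fin n), (τ : Perm (Fin n)) (idx hn 0) = idx hn 0 ∧
      (τ : Perm (Fin n)) (idx hn 1) = idx hn 1 ∧ (τ : Perm (Fin n)) (idx hn 3) = idx hn 2 := by
  have hne : ∀ k : Fin 4, idx hn k ≠ (⟨4, h⟩ : Fin n) := fun k e => by
    have := congrArg Fin.val e
    simp [idx] at this
    omega
  refine ⟨twoSwap (idx_ne hn (show (2 : Fin 4) ≠ 3 by decide)) (hne 2), ?_, ?_, ?_⟩ <;>
  · rw [twoSwap_apply, swap_apply_of_ne_of_ne (idx_ne hn (by decide)) (hne _), swap_idx]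
    exact congrArg (idx hn) (by decide)

/-- The field data for the relators. -/
structure Params (F : Type*) [Field F] (p : ℕ) [Algebra (ZMod p) F] where
  /-- the generator -/
  ω : Fˣ
  /-- the order of the generator -/
  N : ℕ
  k : ℕ
  i : ℕ
  j : ℕ
  P : (ZMod p)[X]
  R : (ZMod p)[X]
  Q : (ZMod p)[X]
  N_pos : 0 < N
  ω_pow : ω ^ N = 1
  generate : ∀ t : F, t ≠ 0 → ∃ l : ℕ, t = (ω : F) ^ l
  surj : Function.Surjective (aeval (ω : F)⁻¹ : (ZMod p)[X] → F)
  surj_sq : Function.Surjective (aeval ((ω : F) ^ 2) : (ZMod p)[X] → F)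
  crt : X ^ N - 1 = minpoly (ZMod p) (ω : F)⁻¹ * R
  dvd : R ∣ P
  hP : aeval (ω : F)⁻¹ P = (ω : F) ^ 2
  hQ : aeval (ω : F)⁻¹ Q = ω
  tri : (ω : F)⁻¹ ^ k = (i : F) + (j : F) * (ω : F)⁻¹
  tri_cases : N = 1 ∨ (¬ p ∣ i ∧ ¬ p ∣ j)

theorem exists_params [Fintype F] (p : ℕ) [hp : Fact p.Prime] [Algebra (ZMod p) F] :
    Nonempty (Params F p) := by
  classical
  obtain ⟨ω, hord, hgen⟩ := exists_omega (F := F)
  have hq := Fintype.one_lt_card (α := F)
  haveI : CharP F p := charP_of_injective_algebraMap (algebraMap (ZMod p) F).injective p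
  set N := Fintype.card F - 1 with hN
  have hN0 : 0 < N := by omega
  have hordy : orderOf ((ω : F)⁻¹) = N := by
    rw [← Units.val_inv_eq_inv_val, orderOf_units, orderOf_inv, hord]
  have hsurj : Function.Surjective (aeval (ω : F)⁻¹ : (ZMod p)[X] → F) :=
    surjective_of_orderOf hordy hN0 (by omega)
  have hpN : ¬ p ∣ N := fun h => by
    obtain ⟨e, -, he⟩ := FiniteField.card F p
    have h1 : p ∣ Fintype.card F := he ▸ dvd_pow_self p e.ne_zero
    have h2 := Nat.dvd_sub h1 h
    rw [hN, Nat.sub_sub_self hq.le] at h2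
    exact hp.out.not_dvd_one h2
  obtain ⟨R, P, hXN, hRP, hP⟩ := exists_crt (hordy ▸ pow_orderOf_eq_one ((ω : F)⁻¹)) hpN hsurj
    ((ω : F) ^ 2)
  obtain ⟨Q, hQ⟩ := hsurj (ω : F)
  have hsq : Function.Surjective (aeval ((ω : F) ^ 2) : (ZMod p)[X] → F) := by
    have hω : orderOf (ω : F) = N := by rw [orderOf_units, hord]
    have hpos : 0 < orderOf ((ω : F) ^ 2) := by
      refine orderOf_pos_iff.2 (isOfFinOrder_iff_pow_eq_one.2 ⟨N, hN0, ?_⟩)
      rw [← pow_mul, mul_comm, pow_mul, ← hω, pow_orderOf_eq_one, one_pow]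
    refine surjective_of_orderOf rfl hpos ?_
    have h2 : (ω : F) ^ (2 * orderOf ((ω : F) ^ 2)) = 1 := by rw [pow_mul, pow_orderOf_eq_one]
    have := Nat.le_of_dvd (by omega) (hω ▸ orderOf_dvd_of_pow_eq_one h2)
    omega
  obtain ⟨k, i, j, htri, hcase⟩ : ∃ k i j : ℕ, (ω : F)⁻¹ ^ k = (i : F) + (j : F) * (ω : F)⁻¹ ∧
      (N = 1 ∨ (¬ p ∣ i ∧ ¬ p ∣ j)) := by
    by_cases h2 : Fintype.card F = 2
    · exact ⟨0, 1, 0, by simp, Or.inl (by omega)⟩
    set y : F := (ω : F)⁻¹ with hy
    have hgeny : ∀ t : F, t ≠ 0 → ∃ k : ℕ, t = y ^ k := fun t ht => by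
      obtain ⟨k, hk⟩ := hgen t⁻¹ (inv_ne_zero ht)
      exact ⟨k, by rw [hy, inv_pow, ← hk, inv_inv]⟩
    have hd1 : ¬ p ∣ 1 := hp.out.not_dvd_one
    by_cases h1 : 1 + y = 0
    · have hy1 : y = -1 := eq_neg_of_add_eq_zero_right h1
      have hp2 : p ≠ 2 := by
        rintro rfl
        rw [CharTwo.neg_eq] at hy1
        refine h2 (le_antisymm ?_ Fintype.one_lt_card)
        have hsub : (Finset.univ : Finset F) ⊆ {0, 1} := fun t _ => by
          rcases eq_or_ne t 0 with rfl | ht
          · simp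
          · obtain ⟨k, rfl⟩ := hgeny t ht
            simp [hy1]
        exact (Finset.card_le_card hsub).trans (Finset.card_le_two)
      refine ⟨0, 2, 1, ?_, Or.inr
        ⟨fun hd => hp2 ((Nat.prime_dvd_prime_iff_eq hp.out Nat.prime_two).1 hd), hd1⟩⟩
      rw [hy1]; push_cast; ring
    · obtain ⟨k, hk⟩ := hgeny _ h1
      exact ⟨k, 1, 1, by rw [← hk]; simp, Or.inr ⟨hd1, hd1⟩⟩
  exact ⟨⟨ω, N, k, i, j, P, R, Q, hN0, hord ▸ pow_orderOf_eq_one ω, hgen, hsurj, hsq, hXN, hRP,
    hP, hQ, htri, hcase⟩⟩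

section
variable (hn : 4 ≤ n) {p : ℕ} [hp : Fact p.Prime] [Algebra (ZMod p) F] (π : Params F p)

theorem tgt_g : cj (fun σ => (pm σ : SL)) (cyc hn) (hT hn π.ω : SL) =
    dg _ _ (idx_ne hn (show (1 : Fin 4) ≠ 2 by decide)) π.ω :=
  pm_dg_to _ (idx_ne hn (show (0 : Fin 4) ≠ 1 by decide)) _ (cyc_apply hn).1 (cyc_apply hn).2.1 _

theorem tgt_g_tv (t : F) : MulAut.conj (dg _ _ (idx_ne hn (show (1 : Fin 4) ≠ 2 by decide)) π.ω)
    (tv (idx_ne hn (show (0 : Fin 4) ≠ 1 by decide)) t) =
    tv (idx_ne hn (show (0 : Fin 4) ≠ 1 by decide)) ((π.ω : F)⁻¹ * t) := by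
  rw [dg_tv]
  congr 1
  simp [hVec, idx_ne hn (show (0 : Fin 4) ≠ 1 by decide), idx_ne hn (show (0 : Fin 4) ≠ 2 by decide)]

theorem tgt_word (Q : (ZMod p)[X]) :
    word (tv (idx_ne hn (show (0 : Fin 4) ≠ 1 by decide)) (1 : F)) (dg _ _ (idx_ne hn (show (1 : Fin 4) ≠ 2 by decide)) π.ω) Q =
      tv (idx_ne hn (show (0 : Fin 4) ≠ 1 by decide)) (aeval (π.ω : F)⁻¹ Q) :=
  word_tv _ _ _ (tgt_g_tv hn π) Q

theorem base_target [CharP F p] : ∀ x ∈ baseRels hn π.N π.k π.i π.j π.P (fun σ => (pm σ : SL)) (uT hn : SL) (hT hn π.ω : SL),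
    x = 1 := by
  intro x hx
  simp only [baseRels, tgt_g] at hx
  simp only [uT, hT] at hx
  simp only [List.mem_cons, List.not_mem_nil, or_false] at hx
  have h01 := idx_ne hn (show (0 : Fin 4) ≠ 1 by decide)
  have h02 := idx_ne hn (show (0 : Fin 4) ≠ 2 by decide)
  have h12 := idx_ne hn (show (1 : Fin 4) ≠ 2 by decide)
  have h21 := h12.symm
  have h23 := idx_ne hn (show (2 : Fin 4) ≠ 3 by decide)
  have h10 := h01.symm
  obtain ⟨c0, c1, c2⟩ := cyc_apply hn
  obtain ⟨e0, e1, e2⟩ := inv2_apply hn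
  rcases hx with rfl | rfl | rfl | rfl | rfl | rfl | rfl | rfl | rfl | rfl | rfl | rfl | rfl
  · rw [tv_pow, CharP.cast_eq_zero, zero_mul, Matrix.SpecialLinearGroup.transvection_coeff_zero]
  · rw [tgt_word, π.hP, mul_inv_eq_one, ← MulAut.conj_apply, dg_tv]
    congr 1
    simp [hVec, h01.symm]
    ring
  · rw [dg_pow, mul_inv_eq_one, ← MulAut.conj_apply, dg_tv, ← MulAut.conj_apply, tgt_g_tv, tv_pow,
      tv_pow, ← Matrix.SpecialLinearGroup.transvection_add]
    congr 1
    simp [hVec, h01, h02, h21, h01.symm]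
    rw [← inv_pow, π.tri]
  · rw [mul_inv_eq_one, ← MulAut.conj_apply, tgt_g_tv, ← Matrix.SpecialLinearGroup.transvection_add,
      ← Matrix.SpecialLinearGroup.transvection_add, add_comm]
  · rw [mul_inv_eq_one]; exact dg_commute _ _ _ _
  · rw [dg_pow, π.ω_pow, dg_one]
  · rw [pm_dg_to (cyc hn) _ h02.symm c1 c2]
    exact dg_tri _ _ _ _
  · rw [pm_dg_to (inv2 hn) _ h10 e0 e1, ← dg_inv h01, inv_mul_cancel]
  · rw [mul_inv_eq_one, pm_tv_to (cyc hn) _ h12 c0 c1,
      pm_tv_to (shift hn) _ h02 (shift_apply hn).1 (shift_apply hn).2]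
    have := tv_form h01 h12 h02 (1 : F) 1
    rwa [mul_one] at this
  · rw [mul_inv_eq_one, pm_tv_to (shift hn) _ h02 (shift_apply hn).1 (shift_apply hn).2]
    exact tv_commute _ _ h01.symm h02 _ _
  · rw [mul_inv_eq_one, pm_tv_to (low hn) _ h21 (low_apply hn).1 (low_apply hn).2]
    exact tv_commute _ _ h12 h01 _ _
  · rw [mul_inv_eq_one, pm_tv_to (far hn) _ h23 (far_apply hn).1 (far_apply hn).2]
    exact tv_commute _ _ h12 (idx_ne hn (by decide)) _ _
  · rw [mul_inv_eq_one, pm_tv_to (inv2 hn) _ h10 e0 e1, Matrix.SpecialLinearGroup.transvection_inv,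
      cyc_eq hn]
    congr 1
    show _ = pm (cyc hn) * _ * _
    rw [← MulAut.conj_apply, map_mul, map_mul, MulAut.conj_apply, MulAut.conj_apply]
    show _ = cj (fun σ => (pm σ : SL)) (cyc hn) _ * cj (fun σ => (pm σ : SL)) (cyc hn) _ *
      cj (fun σ => (pm σ : SL)) (cyc hn) _
    rw [pm_tv_to (cyc hn) _ h12 c0 c1, pm_tv_to (cyc hn) _ h21 c1 c0]

theorem extra_target (s : alternatingGroup (Fin n)) (hs : StabGen hn s) :
    ∀ x ∈ extraRels hn s π.Q (fun σ => (pm σ : SL)) (uT hn : SL) (hT hn π.ω : SL), x = 1 := by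
  intro x hx
  have h01 := idx_ne hn (show (0 : Fin 4) ≠ 1 by decide)
  have h02 := idx_ne hn (show (0 : Fin 4) ≠ 2 by decide)
  have h03 := idx_ne hn (show (0 : Fin 4) ≠ 3 by decide)
  have h13 := idx_ne hn (show (1 : Fin 4) ≠ 3 by decide)
  have h32 := idx_ne hn (show (3 : Fin 4) ≠ 2 by decide)
  have hstab : ∀ σ : alternatingGroup (Fin n), (σ : Perm (Fin n)) (idx hn 0) = idx hn 0 →
      (σ : Perm (Fin n)) (idx hn 1) = idx hn 1 → pm σ * (uT hn : SL) = (uT hn : SL) * pm σ ∧ pm σ * (hT hn π.ω : SL) = (hT hn π.ω : SL) * pm σ :=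
    fun σ h0 h1 => ⟨mul_inv_eq_iff_eq_mul.1 (pm_tv_to σ _ h01 h0 h1 (1 : F)),
      mul_inv_eq_iff_eq_mul.1 (pm_dg_to σ _ h01 h0 h1 π.ω)⟩
  have hD : (uT hn : SL) * cj (fun σ => (pm σ : SL)) (far' hn) (uT hn : SL) *
      (cj (fun σ => (pm σ : SL)) (far' hn) (uT hn : SL) * (uT hn : SL))⁻¹ = 1 := by
    simp only [uT]
    rw [mul_inv_eq_one, pm_tv_to (far' hn) _ h32 (far'_apply hn).1 (far'_apply hn).2]
    exact tv_commute _ _ h13 h02 _ _
  simp only [extraRels, tgt_g] at hx
  simp only [uT, hT] at hx hD hstab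
  split_ifs at hx <;>
    simp only [List.mem_cons, List.not_mem_nil, or_false] at hx <;>
    rcases hx with rfl | rfl | rfl
  · rw [tgt_word, π.hQ, mul_inv_eq_one, pm_tv_to (shift hn) _ h02 (shift_apply hn).1 (shift_apply hn).2,
      pm_tv_to (shift hn) _ h02 (shift_apply hn).1 (shift_apply hn).2, ← MulAut.conj_apply, dg_tv]
    congr 1
    simp [hVec, h02.symm, (idx_ne hn (show (1 : Fin 4) ≠ 2 by decide)).symm]
  · rw [mul_inv_eq_one, pm_tv_to (next3 hn) _ h13 (next3_apply hn).1 (next3_apply hn).2,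
      pm_tv_to (shift3 hn) _ h03 (shift3_apply hn).1 (shift3_apply hn).2]
    have := tv_form h01 h13 h03 (1 : F) 1
    rwa [mul_one] at this
  · exact hD
  · rw [mul_inv_eq_one]; exact (hstab s hs.1 hs.2.1).1
  · rw [mul_inv_eq_one]; exact (hstab s hs.1 hs.2.1).2
  · exact hD
  · rw [mul_inv_eq_one]; exact (hstab s hs.1 hs.2.1).1
  · rw [mul_inv_eq_one]; exact (hstab s hs.1 hs.2.1).2
  · rw [mul_inv_eq_one]
    obtain ⟨e0, e1, -⟩ := inv2_apply hn
    refine (hstab _ ?_ ?_).1
    · rw [Subgroup.coe_mul, Subgroup.coe_mul, Perm.mul_apply, Perm.mul_apply, Subgroup.coe_inv,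
        Perm.inv_eq_iff_eq.2 e1.symm, hs.2.1, e1]
    · rw [Subgroup.coe_mul, Subgroup.coe_mul, Perm.mul_apply, Perm.mul_apply, Subgroup.coe_inv,
        Perm.inv_eq_iff_eq.2 e0.symm, hs.1, e0]

variable {G : Type*} [Group G]

theorem data_of_rels (s : alternatingGroup (Fin n)) (hs : StabGen hn s)
    (M : alternatingGroup (Fin n) →* G) (u h : G)
    (hb : ∀ x ∈ baseRels hn π.N π.k π.i π.j π.P (⇑M) u h, x = 1)
    (he : ∀ x ∈ extraRels hn s π.Q (⇑M) u h, x = 1)
    (hgen : Subgroup.closure (Set.range M ∪ {u, h}) = ⊤) :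
    ∃ ψ : F → G, Data hn M u h ψ (π.ω : F) := by
  simp only [baseRels, List.mem_cons, List.not_mem_nil, or_false, forall_eq_or_imp, forall_eq,
    mul_inv_eq_one] at hb
  obtain ⟨hup, hP, htri, hcm, hhg, hhN, hprod, hinv, hA, hB, hC, hD, hc⟩ := hb
  rw [mul_eq_one_iff_eq_inv] at hinv
  change Commute u _ at hcm
  change Commute h _ at hhg
  set g := cj (⇑M) (cyc hn) h with hg
  have hgN : g ^ π.N = 1 := by rw [hg, cj, pow_conj, hhN, mul_one, mul_inv_cancel]
  have hcomm : ∀ l : ℕ, Commute u (g ^ l * u * (g ^ l)⁻¹) := by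
    rcases π.tri_cases with h1 | ⟨hi, hj⟩
    · intro l
      rw [h1, pow_one] at hgN
      simp [hgN]
    · exact commute_trinomial hup hcm (Commute.pow_self _ _) hi hj htri
  obtain ⟨ψ, hadd, h1, hψh, hψg, hword⟩ := exists_param u g h ((π.ω : F) ^ 2) (π.ω : F)⁻¹ hup hcomm
    hhg.symm π.surj π.P π.hP hP (Or.inr (Or.inr ⟨π.N, π.R, π.N_pos, hhN, hgN, π.crt, π.dvd⟩))
  have hind : ∀ S : F → Prop, S 0 → S 1 → (∀ a b, S a → S b → S (a + b)) →
      (∀ a, S a → S ((π.ω : F) ^ 2 * a)) → ∀ b, S b := fun S h0 h1' ha hm b => by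
    obtain ⟨Q, rfl⟩ := π.surj_sq b
    induction Q using Polynomial.induction_on' with
    | add A B hA hB => rw [map_add]; exact ha _ _ hA hB
    | monomial l a =>
      have hl : S (((π.ω : F) ^ 2) ^ l) := by
        induction l with
        | zero => simpa using h1'
        | succ l ih => rw [pow_succ']; exact hm _ ih
      rw [aeval_monomial, ← ZMod.natCast_zmod_val a, map_natCast]
      induction a.val with
      | zero => simpa using h0
      | succ m ih => rw [Nat.cast_succ, add_mul, one_mul]; exact ha _ _ ih hl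
  have hinv' : MulAut.conj (M (inv2 hn)) h = h⁻¹ := hinv
  have hstab : ∀ σ : alternatingGroup (Fin n), (σ : Perm (Fin n)) (idx hn 0) = idx hn 0 →
      (σ : Perm (Fin n)) (idx hn 1) = idx hn 1 → Commute (M σ) u ∧ Commute (M σ) h := by
    intro σ h0 h1'
    rcases Nat.eq_or_lt_of_le hn with h4 | h5
    · subst h4
      have hone : ∀ τ : Perm (Fin 4), τ 0 = 0 → τ 1 = 1 → Perm.sign τ = 1 → τ = 1 := by decide
      have hσ : σ = 1 := Subtype.ext (hone _ h0 h1' (Perm.mem_alternatingGroup.1 σ.2))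
      rw [hσ, map_one]
      exact ⟨Commute.one_left _, Commute.one_left _⟩
    let K : Subgroup (alternatingGroup (Fin n)) :=
      (Subgroup.centralizer ({u} : Set G)).comap M ⊓ (Subgroup.centralizer ({h} : Set G)).comap M
    have hmem : ∀ τ, τ ∈ K ↔ Commute (M τ) u ∧ Commute (M τ) h := fun τ => by
      simp [K, Subgroup.mem_centralizer_singleton_iff, Commute, SemiconjBy, eq_comm]
    have he' : Commute (M s) u ∧ Commute (M s) h ∧
        (5 < n → Commute (M (inv2 hn * s * (inv2 hn)⁻¹)) u) := by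
      simp only [extraRels, if_neg (show n ≠ 4 by omega)] at he
      split_ifs at he with h5'
      all_goals simp only [List.mem_cons, List.not_mem_nil, or_false, forall_eq_or_imp, forall_eq,
        mul_inv_eq_one] at he
      · exact ⟨he.1, he.2.1, fun h6 => absurd h5' (by omega)⟩
      · exact ⟨he.1, he.2.1, fun _ => he.2.2⟩
    refine (hmem σ).1 (hs.2.2 K ((hmem s).2 ⟨he'.1, he'.2.1⟩) (fun h6 => (hmem _).2 ⟨he'.2.2 h6, ?_⟩)
      σ h0 h1')
    have h2 := he'.2.1.map (MulAut.conj (M (inv2 hn)))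
    rw [hinv', MulAut.conj_apply (M (inv2 hn)) (M s), ← map_inv, ← map_mul, ← map_mul] at h2
    exact Commute.inv_right_iff.1 h2
  have hroot : ∀ (σ : alternatingGroup (Fin n)) {i j : Fin n}, (σ : Perm (Fin n)) (idx hn 0) = i →
      (σ : Perm (Fin n)) (idx hn 1) = j → root hn M ψ i j 1 = cj (⇑M) σ u := by
    intro σ i j hi hj
    rw [root, h1]
    exact trans_eq hn (fun τ a b => (hstab τ a b).1) σ hi hj
  have h01 : root hn M ψ (idx hn 0) (idx hn 1) 1 = u := by
    rw [hroot 1 (i := idx hn 0) (j := idx hn 1) rfl rfl, cj, map_one]; simp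
  obtain ⟨c0, c1, c2⟩ := cyc_apply hn
  obtain ⟨e0, e1, e2⟩ := inv2_apply hn
  refine ⟨ψ, π.ω.ne_zero, π.generate, hind, hadd, h1, hψh, hψg, hstab, hinv', hhg, hprod, ?_,
    ?_, ?_, ?_, ?_, hc, hgen⟩
  · -- the torus on the adjacent root
    rcases Nat.eq_or_lt_of_le hn with h4 | h5
    · simp only [extraRels, if_pos h4.symm, List.mem_cons, List.not_mem_nil, or_false,
        forall_eq_or_imp, forall_eq, mul_inv_eq_one] at he
      rw [← hg, hword, π.hQ] at he
      exact he.1
    obtain ⟨τ, hτ⟩ := exists_stab_move hn h5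
    have hσ0 : ((τ * (inv2 hn * cyc hn) : alternatingGroup (Fin n)) : Perm (Fin n)) (idx hn 0) =
        idx hn 0 := by
      rw [Subgroup.coe_mul, Subgroup.coe_mul, Perm.mul_apply, Perm.mul_apply, c0, e1, hτ.1]
    have hσ1 : ((τ * (inv2 hn * cyc hn) : alternatingGroup (Fin n)) : Perm (Fin n)) (idx hn 1) =
        idx hn 2 := by
      rw [Subgroup.coe_mul, Subgroup.coe_mul, Perm.mul_apply, Perm.mul_apply, c1, e2, hτ.2.2]
    have hψstab : ∀ t, ∀ σ : alternatingGroup (Fin n), (σ : Perm (Fin n)) (idx hn 0) = idx hn 0 →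
        (σ : Perm (Fin n)) (idx hn 1) = idx hn 1 → Commute (M σ) (ψ t) := by
      intro t σ a b
      refine hind (fun t => Commute (M σ) (ψ t)) ?_ ?_ (fun x y hx hy => ?_) (fun x hx => ?_) t
      · have h2 := hadd 0 0
        rw [add_zero] at h2
        rw [show ψ 0 = 1 from left_eq_mul.1 h2]
        exact Commute.one_right _
      · rw [h1]; exact (hstab σ a b).1
      · rw [hadd]; exact hx.mul_right hy
      · rw [← hψh]
        exact ((hstab σ a b).2.mul_right hx).mul_right (hstab σ a b).2.inv_right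
    have hsh : ∀ t, MulAut.conj (M (shift hn)) (ψ t) =
        MulAut.conj (M τ) (MulAut.conj (M (inv2 hn)) (MulAut.conj (M (cyc hn)) (ψ t))) := fun t => by
      rw [← trans_eq hn (hψstab t) _ (shift_apply hn).1 (shift_apply hn).2,
        trans_eq hn (hψstab t) _ hσ0 hσ1]
      simp only [map_mul, MulAut.mul_apply]
    have key : MulAut.conj h⁻¹ (MulAut.conj (M (cyc hn)) (ψ 1)) =
        MulAut.conj (M (cyc hn)) (ψ (π.ω : F)) := by
      have hc3 : cyc hn * cyc hn * cyc hn = 1 := by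
        refine Subtype.ext (Equiv.ext fun x => ?_)
        show swap _ _ (swap _ _ (swap _ _ (swap _ _ (swap _ _ (swap _ _ x))))) = x
        by_cases x0 : x = idx hn 0
        · subst x0; simp only [swap_idx]; exact congrArg (idx hn) (by decide)
        by_cases x1 : x = idx hn 1
        · subst x1; simp only [swap_idx]; exact congrArg (idx hn) (by decide)
        by_cases x2 : x = idx hn 2
        · subst x2; simp only [swap_idx]; exact congrArg (idx hn) (by decide)
        simp [swap_apply_of_ne_of_ne, x0, x1, x2]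
      have h20 : (M (cyc hn))⁻¹ * h⁻¹ * M (cyc hn) = h * g := by
        have hm : (M (cyc hn))⁻¹ = M (cyc hn) * M (cyc hn) := inv_eq_of_mul_eq_one_left (by
          rw [← map_mul, ← map_mul, hc3, map_one])
        have h2 : M (cyc hn) * g * (M (cyc hn))⁻¹ = (h * g)⁻¹ := eq_inv_of_mul_eq_one_right hprod
        have h3 : (M (cyc hn))⁻¹ * h * M (cyc hn) = M (cyc hn) * g * (M (cyc hn))⁻¹ := by
          rw [hg, cj, show M (cyc hn) * (M (cyc hn) * h * (M (cyc hn))⁻¹) * (M (cyc hn))⁻¹ =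
            (M (cyc hn) * M (cyc hn)) * h * (M (cyc hn) * M (cyc hn))⁻¹ by group, ← hm, inv_inv]
        rw [← inv_inj, ← h2, ← h3]
        group
      have h4 : MulAut.conj (h * g) (ψ 1) = ψ (π.ω : F) := by
        rw [map_mul, MulAut.mul_apply, MulAut.conj_apply g, hψg, MulAut.conj_apply h, hψh]
        congr 1
        field_simp
      rw [← h4, ← h20]
      simp only [MulAut.conj_apply]
      group
    rw [← h1, hsh, hsh, ← key]
    have hcτ : Commute h (M τ) := (hstab τ hτ.1 hτ.2.1).2.symm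
    have hflip : ∀ y, MulAut.conj h (MulAut.conj (M (inv2 hn)) y) =
        MulAut.conj (M (inv2 hn)) (MulAut.conj h⁻¹ y) := by
      intro y
      have e : M (inv2 hn) * h⁻¹ * (M (inv2 hn))⁻¹ = h := by
        rw [← MulAut.conj_apply, map_inv, hinv', inv_inv]
      rw [← MulAut.mul_apply, ← MulAut.mul_apply, ← map_mul, ← map_mul,
        ← mul_inv_eq_iff_eq_mul.1 e]
    rw [← hflip, ← MulAut.mul_apply, ← map_mul, hcτ.eq, map_mul, MulAut.mul_apply]
  · intro k hk
    rw [h01]
    rcases hk with rfl | rfl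
    · rw [hroot (cyc hn) c0 c1, hroot (shift hn) (shift_apply hn).1 (shift_apply hn).2]
      exact hA
    rw [hroot (next3 hn) (next3_apply hn).1 (next3_apply hn).2,
      hroot (shift3 hn) (shift3_apply hn).1 (shift3_apply hn).2]
    rcases Nat.eq_or_lt_of_le hn with h4 | h5
    · simp only [extraRels, if_pos h4.symm, List.mem_cons, List.not_mem_nil, or_false,
        forall_eq_or_imp, forall_eq, mul_inv_eq_one] at he
      exact he.2.1
    obtain ⟨τ₀, hτ₀⟩ := exists_stab_move hn h5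
    set τ := τ₀⁻¹ with hτdef
    have hτ : (τ : Perm (Fin n)) (idx hn 0) = idx hn 0 ∧ (τ : Perm (Fin n)) (idx hn 1) = idx hn 1 ∧
        (τ : Perm (Fin n)) (idx hn 2) = idx hn 3 :=
      ⟨Perm.inv_eq_iff_eq.2 hτ₀.1.symm, Perm.inv_eq_iff_eq.2 hτ₀.2.1.symm,
        Perm.inv_eq_iff_eq.2 hτ₀.2.2.symm⟩
    have h2 := congrArg (MulAut.conj (M τ)) hA
    have hu : MulAut.conj (M τ) u = u := by
      rw [MulAut.conj_apply, (hstab τ hτ.1 hτ.2.1).1.eq, mul_inv_cancel_right]
    rw [map_mul, map_mul, map_mul, hu,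
      show MulAut.conj (M τ) (cj (⇑M) (cyc hn) u) = cj (⇑M) (τ * cyc hn) u by
        simp only [cj, MulAut.conj_apply, map_mul]; group,
      show MulAut.conj (M τ) (cj (⇑M) (shift hn) u) = cj (⇑M) (τ * shift hn) u by
        simp only [cj, MulAut.conj_apply, map_mul]; group,
      ← hroot (τ * cyc hn) (i := idx hn 1) (j := idx hn 3)
        (by rw [Subgroup.coe_mul, Perm.mul_apply, c0, hτ.2.1])
        (by rw [Subgroup.coe_mul, Perm.mul_apply, c1, hτ.2.2]),
      ← hroot (τ * shift hn) (i := idx hn 0) (j := idx hn 3)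
        (by rw [Subgroup.coe_mul, Perm.mul_apply, (shift_apply hn).1, hτ.1])
        (by rw [Subgroup.coe_mul, Perm.mul_apply, (shift_apply hn).2, hτ.2.2]),
      hroot (next3 hn) (next3_apply hn).1 (next3_apply hn).2,
      hroot (shift3 hn) (shift3_apply hn).1 (shift3_apply hn).2] at h2
    exact h2
  · rw [h01, hroot (shift hn) (shift_apply hn).1 (shift_apply hn).2]
    exact hB
  · rw [h01, hroot (low hn) (low_apply hn).1 (low_apply hn).2]
    exact hC
  · rw [h01, hroot (far hn) (far_apply hn).1 (far_apply hn).2,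
      hroot (far' hn) (far'_apply hn).1 (far'_apply hn).2]
    refine ⟨hD, ?_⟩
    by_cases h6 : n = 4 ∨ n = 5
    · rcases h6 with rfl | rfl
      all_goals simp only [extraRels, if_true, show ¬ (5 = 4) by decide, if_false, List.mem_cons,
        List.not_mem_nil, or_false, forall_eq_or_imp, forall_eq, mul_inv_eq_one] at he
      all_goals exact he.2.2
    push Not at h6
    have h4' : 4 < n := by omega
    have h5' : 5 < n := by omega
    let a : Fin n := ⟨4, h4'⟩
    let b : Fin n := ⟨5, h5'⟩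
    have hab : a ≠ b := fun e => by simpa [a, b] using congrArg Fin.val e
    have hne : ∀ k : Fin 4, idx hn k ≠ a ∧ idx hn k ≠ b := fun k => by
      constructor <;>
      · intro e
        have := congrArg Fin.val e
        simp [idx, a, b] at this
        omega
    let τ : alternatingGroup (Fin n) := twoSwap (idx_ne hn (show (2 : Fin 4) ≠ 3 by decide)) hab
    have hτ : ∀ k, (τ : Perm (Fin n)) (idx hn k) = idx hn (swap 2 3 k) := fun k => by
      show swap _ _ (swap _ _ _) = _
      rw [swap_apply_of_ne_of_ne (hne k).1 (hne k).2, swap_idx]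
    have hτ0 : (τ : Perm (Fin n)) (idx hn 0) = idx hn 0 :=
      (hτ 0).trans (congrArg (idx hn) (by decide))
    have hτ1 : (τ : Perm (Fin n)) (idx hn 1) = idx hn 1 :=
      (hτ 1).trans (congrArg (idx hn) (by decide))
    have h2 := (show Commute u _ from hD).map (MulAut.conj (M τ))
    rw [show MulAut.conj (M τ) u = u by
      rw [MulAut.conj_apply, (hstab τ hτ0 hτ1).1.eq, mul_inv_cancel_right],
      show MulAut.conj (M τ) (cj (⇑M) (far hn) u) = cj (⇑M) (τ * far hn) u by
        simp only [cj, MulAut.conj_apply, map_mul]; group,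
      ← hroot (τ * far hn) (i := idx hn 3) (j := idx hn 2)
        (by rw [Subgroup.coe_mul, Perm.mul_apply, (far_apply hn).1, hτ]; exact congrArg (idx hn) (by decide))
        (by rw [Subgroup.coe_mul, Perm.mul_apply, (far_apply hn).2, hτ]; exact congrArg (idx hn) (by decide)),
      hroot (far' hn) (far'_apply hn).1 (far'_apply hn).2] at h2
    exact h2

end

/-- Adjoining sixteen relators to a presentation of the alternating group presents `SL_n`. -/
theorem presentation [Fintype F] (hn : 4 ≤ n) {m r : ℕ} {v : Fin m → alternatingGroup (Fin n)}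
    (hv : HasPres v r) {s : alternatingGroup (Fin n)} (hs : StabGen hn s) :
    ∃ w : Fin m ⊕ Fin 2 → SL, HasPres w (r + 16) := by
  classical
  obtain ⟨p, hchar⟩ := CharP.exists F
  haveI : Fact p.Prime := ⟨CharP.char_is_prime F p⟩
  letI : Algebra (ZMod p) F := ZMod.algebra F p
  obtain ⟨π⟩ := exists_params (F := F) p
  obtain ⟨rels, hcard, e, he⟩ := hv
  have hlift : ∀ σ, ∃ x : FreeGroup (Fin m), FreeGroup.lift v x = σ := fun σ => by
    obtain ⟨x, hx⟩ := PresentedGroup.mk_surjective (↑rels : Set (FreeGroup (Fin m))) (e.symm σ)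
    exact ⟨x, by rw [HasPres.lift_eq e he, hx, e.apply_symm_apply]⟩
  choose lw hlw using hlift
  let inl : FreeGroup (Fin m) →* FreeGroup (Fin m ⊕ Fin 2) := FreeGroup.map Sum.inl
  let U : FreeGroup (Fin m ⊕ Fin 2) := FreeGroup.of (Sum.inr 0)
  let H : FreeGroup (Fin m ⊕ Fin 2) := FreeGroup.of (Sum.inr 1)
  let L := baseRels hn π.N π.k π.i π.j π.P (fun σ => inl (lw σ)) U H ++
    extraRels hn s π.Q (fun σ => inl (lw σ)) U H
  let R : Finset (FreeGroup (Fin m ⊕ Fin 2)) := rels.image inl ∪ L.toFinset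
  have hR : R.card ≤ r + 16 := by
    refine (Finset.card_union_le _ _).trans (Nat.add_le_add (Finset.card_image_le.trans hcard) ?_)
    refine (List.toFinset_card_le L).trans ?_
    simp only [L, List.length_append, length_extraRels]
    rfl
  let w : Fin m ⊕ Fin 2 → SL := Sum.elim (fun i => pm (v i))
    ![Matrix.SpecialLinearGroup.transvection (idx_ne hn (show (0 : Fin 4) ≠ 1 by decide)) (1 : F),
      dg _ _ (idx_ne hn (show (0 : Fin 4) ≠ 1 by decide)) π.ω]
  have hw : ∀ x, FreeGroup.lift w (inl x) = pm (FreeGroup.lift v x) := by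
    intro x
    have : (FreeGroup.lift w).comp inl = (pm (F := F)).comp (FreeGroup.lift v) := by
      ext i; simp [inl, w]
    exact DFunLike.congr_fun this x
  have hrel : ∀ x ∈ (↑R : Set (FreeGroup (Fin m ⊕ Fin 2))), FreeGroup.lift w x = 1 := by
    intro x hx
    simp only [R, Finset.coe_union, Finset.coe_image, Set.mem_union, Set.mem_image, Finset.mem_coe,
      List.mem_toFinset, L, List.mem_append] at hx
    rcases hx with ⟨y, hy, rfl⟩ | hx | hx
    · rw [hw, HasPres.lift_eq e he, PresentedGroup.one_of_mem (Finset.mem_coe.2 hy), map_one,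
        map_one]
    all_goals
      have h2 := List.mem_map_of_mem (f := FreeGroup.lift w) hx
      simp only [map_baseRels, map_extraRels, hw, hlw, U, H, FreeGroup.lift_apply_of, w, Sum.elim_inr,
        Matrix.cons_val_zero, Matrix.cons_val_one] at h2
    · exact base_target hn π _ h2
    · exact extra_target hn π s hs _ h2
  set q := PresentedGroup.mk (↑R : Set (FreeGroup (Fin m ⊕ Fin 2))) with hq
  set φ := PresentedGroup.toGroup hrel
  have hv' : ∀ x ∈ (↑rels : Set (FreeGroup (Fin m))),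
      FreeGroup.lift (fun i => q (inl (FreeGroup.of i))) x = 1 := by
    intro x hx
    have : FreeGroup.lift (fun i => q (inl (FreeGroup.of i))) = q.comp inl := by ext i; simp
    rw [this]
    refine PresentedGroup.one_of_mem ?_
    simp only [R, Finset.coe_union, Finset.coe_image]
    exact Or.inl ⟨x, hx, rfl⟩
  let M : alternatingGroup (Fin n) →* PresentedGroup (↑R : Set (FreeGroup (Fin m ⊕ Fin 2))) :=
    (PresentedGroup.toGroup hv').comp e.symm.toMonoidHom
  have hM : ∀ x, M (FreeGroup.lift v x) = q (inl x) := by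
    intro x
    have : M.comp (FreeGroup.lift v) = q.comp inl := by
      ext i
      simp only [MonoidHom.comp_apply, FreeGroup.lift_apply_of, M, MulEquiv.coe_toMonoidHom,
        ← he i, e.symm_apply_apply]
      exact PresentedGroup.toGroup.of hv'
    exact DFunLike.congr_fun this x
  have hMw : (fun σ => q (inl (lw σ))) = ⇑M := funext fun σ => by rw [← hM, hlw]
  have hL : ∀ x ∈ L.map q, x = 1 := by
    intro x hx
    obtain ⟨y, hy, rfl⟩ := List.mem_map.1 hx
    refine PresentedGroup.one_of_mem ?_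
    simp only [R, Finset.coe_union, Set.mem_union, Finset.mem_coe, List.mem_toFinset]
    exact Or.inr hy
  simp only [L, List.map_append, map_baseRels, map_extraRels, hMw, List.mem_append] at hL
  have hgen : Subgroup.closure (Set.range M ∪ {q U, q H}) = ⊤ := by
    rw [eq_top_iff, ← PresentedGroup.closure_range_of, Subgroup.closure_le]
    rintro _ ⟨i | i, rfl⟩
    · refine Subgroup.subset_closure (Or.inl ⟨v i, ?_⟩)
      have := hM (FreeGroup.of i)
      simp only [FreeGroup.lift_apply_of] at this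
      rw [this]; simp [inl, q]; rfl
    · refine Subgroup.subset_closure (Or.inr ?_)
      fin_cases i
      · exact Or.inl rfl
      · exact Or.inr rfl
  obtain ⟨ψ, D⟩ := data_of_rels hn π s hs M (q U) (q H) (fun x hx => hL x (Or.inl hx))
    (fun x hx => hL x (Or.inr hx)) hgen
  have hφM : ∀ σ, φ (M σ) = pm σ := fun σ => by
    rw [← congrFun hMw σ]
    exact (hw (lw σ)).trans (by rw [hlw])
  have hφψ : ∀ t, φ (ψ t) =
      Matrix.SpecialLinearGroup.transvection (idx_ne hn (show (0 : Fin 4) ≠ 1 by decide)) t := by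
    intro t
    refine D.ind (fun t => φ (ψ t) = Matrix.SpecialLinearGroup.transvection _ t) ?_ ?_
      (fun a b ha hb => ?_) (fun a ha => ?_) t
    · have h2 := D.map_add 0 0
      rw [add_zero] at h2
      rw [show ψ 0 = 1 from left_eq_mul.1 h2, map_one, Matrix.SpecialLinearGroup.transvection_coeff_zero]
    · rw [D.map_one]; exact PresentedGroup.toGroup.of hrel
    · rw [D.map_add, map_mul, ha, hb, Matrix.SpecialLinearGroup.transvection_add]
    · have hH : φ (q H) = dg _ _ (idx_ne hn (show (0 : Fin 4) ≠ 1 by decide)) π.ω :=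
        PresentedGroup.toGroup.of hrel
      rw [← D.conj_h, MulAut.conj_apply, map_mul, map_mul, map_inv, ha, hH, ← MulAut.conj_apply, dg_tv]
      congr 1
      simp [hVec, idx_ne hn (show (1 : Fin 4) ≠ 0 by decide), sq]
  have hX : ∀ i j : Fin n, ∀ h : i ≠ j, ∀ a, φ (root hn M ψ i j a) =
      Matrix.SpecialLinearGroup.transvection h a := by
    intro i j h a
    obtain ⟨σ, hi, hj⟩ := exists_even_two hn h
    rw [D.X_eq σ hi hj, MulAut.conj_apply, map_mul, map_mul, map_inv, hφM, hφψ]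
    exact pm_tv_to σ _ h hi hj a
  have hsurj : Function.Surjective φ := by
    rw [← MonoidHom.range_eq_top]
    exact Cfsg.Agent.Classical.sl_subgroup_eq_top_of_transvection_mem _ fun i j h a =>
      ⟨_, hX i j h a⟩
  exact ⟨w, R, hR, MulEquiv.ofBijective φ ⟨D.full.injective φ hX, hsurj⟩,
    fun i => PresentedGroup.toGroup.of hrel⟩

end CfsgLib.SLPresent
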