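import Cfsg.Agent.Lib.SLPresent.Spread
import Cfsg.Agent.Lib.SLTwoPresent.Word

/-!
The sixteen relators added to a presentation of the alternating group.
-/

set_option autoImplicit false

namespace CfsgLib.SLPresent

open Equiv

variable {n : ℕ}

/-- An even permutation moving the first index to the third and fixing the second. -/
def low (hn : 4 ≤ n) : alternatingGroup (Fin n) :=
  twoSwap (idx_ne hn (show (0 : Fin 4) ≠ 2 by decide)) (idx_ne hn (show (2 : Fin 4) ≠ 3 by decide))

/-- An even permutation moving the first pair to the second. -/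
def far (hn : 4 ≤ n) : alternatingGroup (Fin n) :=
  twoSwap (idx_ne hn (show (0 : Fin 4) ≠ 2 by decide)) (idx_ne hn (show (1 : Fin 4) ≠ 3 by decide))

/-- An even permutation moving the first pair to the second, reversed. -/
def far' (hn : 4 ≤ n) : alternatingGroup (Fin n) :=
  twoSwap (idx_ne hn (show (0 : Fin 4) ≠ 3 by decide)) (idx_ne hn (show (1 : Fin 4) ≠ 2 by decide))

/-- An even permutation sending the first two indices to the second and fourth. -/
def next3 (hn : 4 ≤ n) : alternatingGroup (Fin n) :=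
  twoSwap (idx_ne hn (show (0 : Fin 4) ≠ 1 by decide)) (idx_ne hn (show (1 : Fin 4) ≠ 3 by decide))

/-- An even permutation sending the first two indices to the first and fourth. -/
def shift3 (hn : 4 ≤ n) : alternatingGroup (Fin n) :=
  twoSwap (idx_ne hn (show (1 : Fin 4) ≠ 3 by decide)) (idx_ne hn (show (3 : Fin 4) ≠ 2 by decide))

theorem low_apply (hn : 4 ≤ n) : (low hn : Perm (Fin n)) (idx hn 0) = idx hn 2 ∧
    (low hn : Perm (Fin n)) (idx hn 1) = idx hn 1 := by
  refine ⟨?_, ?_⟩ <;> exact (twoSwap_idx hn (by decide) (by decide) _).trans (congrArg (idx hn) (by decide))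

theorem far_apply (hn : 4 ≤ n) : (far hn : Perm (Fin n)) (idx hn 0) = idx hn 2 ∧
    (far hn : Perm (Fin n)) (idx hn 1) = idx hn 3 := by
  refine ⟨?_, ?_⟩ <;> exact (twoSwap_idx hn (by decide) (by decide) _).trans (congrArg (idx hn) (by decide))

theorem far'_apply (hn : 4 ≤ n) : (far' hn : Perm (Fin n)) (idx hn 0) = idx hn 3 ∧
    (far' hn : Perm (Fin n)) (idx hn 1) = idx hn 2 := by
  refine ⟨?_, ?_⟩ <;> exact (twoSwap_idx hn (by decide) (by decide) _).trans (congrArg (idx hn) (by decide))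

theorem next3_apply (hn : 4 ≤ n) : (next3 hn : Perm (Fin n)) (idx hn 0) = idx hn 1 ∧
    (next3 hn : Perm (Fin n)) (idx hn 1) = idx hn 3 := by
  refine ⟨?_, ?_⟩ <;> exact (twoSwap_idx hn (by decide) (by decide) _).trans (congrArg (idx hn) (by decide))

theorem shift3_apply (hn : 4 ≤ n) : (shift3 hn : Perm (Fin n)) (idx hn 0) = idx hn 0 ∧
    (shift3 hn : Perm (Fin n)) (idx hn 1) = idx hn 3 := by
  refine ⟨?_, ?_⟩ <;> exact (twoSwap_idx hn (by decide) (by decide) _).trans (congrArg (idx hn) (by decide))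

variable {G : Type*} [Group G] {p : ℕ}

/-- Conjugate by a chosen preimage of a permutation. -/
def cj (M : alternatingGroup (Fin n) → G) (σ : alternatingGroup (Fin n)) (x : G) : G :=
  M σ * x * (M σ)⁻¹

/-- The relators common to all degrees. -/
noncomputable def baseRels (hn : 4 ≤ n) (N k i j : ℕ) (P : Polynomial (ZMod p))
    (M : alternatingGroup (Fin n) → G) (u h : G) : List G :=
  let g := cj M (cyc hn) h
  let W := u⁻¹ * cj M (inv2 hn) u * u⁻¹
  [u ^ p, h * u * h⁻¹ * (SLTwoPresent.word u g P)⁻¹,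
    g ^ k * u * (g ^ k)⁻¹ * (u ^ i * (g * u * g⁻¹) ^ j)⁻¹,
    u * (g * u * g⁻¹) * (g * u * g⁻¹ * u)⁻¹, h * g * (g * h)⁻¹, h ^ N, h * g * cj M (cyc hn) g,
    cj M (inv2 hn) h * h,
    u * cj M (cyc hn) u * (cj M (shift hn) u * cj M (cyc hn) u * u)⁻¹,
    u * cj M (shift hn) u * (cj M (shift hn) u * u)⁻¹,
    u * cj M (low hn) u * (cj M (low hn) u * u)⁻¹,
    u * cj M (far hn) u * (cj M (far hn) u * u)⁻¹,
    M (cyc hn) * (W * cj M (cyc hn) W)⁻¹]

/-- The three relators depending on the degree. -/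
noncomputable def extraRels (hn : 4 ≤ n) (s : alternatingGroup (Fin n)) (Q : Polynomial (ZMod p))
    (M : alternatingGroup (Fin n) → G) (u h : G) : List G :=
  let g := cj M (cyc hn) h
  if n = 4 then
    [h * cj M (shift hn) u * h⁻¹ * (cj M (shift hn) (SLTwoPresent.word u g Q))⁻¹,
      u * cj M (next3 hn) u * (cj M (shift3 hn) u * cj M (next3 hn) u * u)⁻¹,
      u * cj M (far' hn) u * (cj M (far' hn) u * u)⁻¹]
  else if n = 5 then
    [M s * u * (u * M s)⁻¹, M s * h * (h * M s)⁻¹,
      u * cj M (far' hn) u * (cj M (far' hn) u * u)⁻¹]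
  else
    [M s * u * (u * M s)⁻¹, M s * h * (h * M s)⁻¹,
      M (inv2 hn * s * (inv2 hn)⁻¹) * u * (u * M (inv2 hn * s * (inv2 hn)⁻¹))⁻¹]

theorem length_extraRels (hn : 4 ≤ n) (s : alternatingGroup (Fin n)) (Q : Polynomial (ZMod p))
    (M : alternatingGroup (Fin n) → G) (u h : G) : (extraRels hn s Q M u h).length = 3 := by
  unfold extraRels; dsimp only; split_ifs <;> rfl

variable {H : Type*} [Group H]

theorem map_baseRels (f : G →* H) (hn : 4 ≤ n) (N k i j : ℕ) (P : Polynomial (ZMod p))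
    (M : alternatingGroup (Fin n) → G) (u h : G) :
    (baseRels hn N k i j P M u h).map f =
      baseRels hn N k i j P (fun σ => f (M σ)) (f u) (f h) := by
  simp [baseRels, cj, SLTwoPresent.map_word]

theorem map_extraRels (f : G →* H) (hn : 4 ≤ n) (s : alternatingGroup (Fin n))
    (Q : Polynomial (ZMod p)) (M : alternatingGroup (Fin n) → G) (u h : G) :
    (extraRels hn s Q M u h).map f = extraRels hn s Q (fun σ => f (M σ)) (f u) (f h) := by
  unfold extraRels; dsimp only
  split_ifs <;> simp [cj, SLTwoPresent.map_word]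

/-- `s` and, in large degree, its conjugate generate the stabiliser of the first two indices. -/
def StabGen (hn : 4 ≤ n) (s : alternatingGroup (Fin n)) : Prop :=
  (s : Perm (Fin n)) (idx hn 0) = idx hn 0 ∧ (s : Perm (Fin n)) (idx hn 1) = idx hn 1 ∧
  ∀ K : Subgroup (alternatingGroup (Fin n)), s ∈ K → (5 < n → inv2 hn * s * (inv2 hn)⁻¹ ∈ K) →
    ∀ σ : alternatingGroup (Fin n), (σ : Perm (Fin n)) (idx hn 0) = idx hn 0 →
      (σ : Perm (Fin n)) (idx hn 1) = idx hn 1 → σ ∈ K

end CfsgLib.SLPresent
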