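import Cfsg.Agent.Lib.SLPresent.Spread
import Cfsg.Agent.Lib.SymPresent.Tietze
import Cfsg.Agent.Lib.Recognition.Icosahedral

/-!
Presentations of `A₄` and `A₅` on two generators with three relations.
-/

set_option autoImplicit false

namespace CfsgLib.SLPresent

open SymPresent

/-- An order bound turns three relators into a presentation. -/
theorem hasPres_of_bound {T : Type} [Group T] [Finite T] (v : Fin 2 → T)
    (hgen : Subgroup.closure (Set.range v) = ⊤) (r : Fin 3 → FreeGroup (Fin 2))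
    (hT : ∀ l, FreeGroup.lift v (r l) = 1)
    (hb : ∀ (G : Type) (_ : Group G) (x y : G), Subgroup.closure ({x, y} : Set G) = ⊤ →
      (∀ l, FreeGroup.lift ![x, y] (r l) = 1) → Finite G ∧ Nat.card G ≤ Nat.card T) :
    HasPres v 3 := by
  classical
  set R : Finset (FreeGroup (Fin 2)) := Finset.univ.image r with hR
  have hrel : ∀ w ∈ (↑R : Set (FreeGroup (Fin 2))), FreeGroup.lift v w = 1 := by
    intro w hw
    obtain ⟨l, -, rfl⟩ := Finset.mem_image.1 hw
    exact hT l
  set φ := PresentedGroup.toGroup hrel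
  have hsurj : Function.Surjective φ := by
    rw [← MonoidHom.range_eq_top, ← top_le_iff, ← hgen, Subgroup.closure_le]
    rintro _ ⟨i, rfl⟩
    exact ⟨PresentedGroup.of i, PresentedGroup.toGroup.of hrel⟩
  have hcl := PresentedGroup.closure_range_of (↑R : Set (FreeGroup (Fin 2)))
  obtain ⟨hfin, hle⟩ := hb (PresentedGroup (↑R : Set (FreeGroup (Fin 2)))) inferInstance
    (PresentedGroup.of 0) (PresentedGroup.of 1) (by
      rw [← top_le_iff, ← hcl, Subgroup.closure_le]
      rintro _ ⟨i, rfl⟩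
      refine Subgroup.subset_closure ?_
      fin_cases i <;> simp)
    (fun l => by
      have e : FreeGroup.lift ![(PresentedGroup.of 0 : PresentedGroup (↑R : Set _)),
          PresentedGroup.of 1] = PresentedGroup.mk _ := by
        ext i; fin_cases i <;> simp <;> rfl
      rw [e]
      exact PresentedGroup.one_of_mem (Finset.mem_coe.2 (Finset.mem_image.2 ⟨l, Finset.mem_univ _, rfl⟩)))
  exact ⟨R, Finset.card_image_le.trans (by simp), MulEquiv.ofBijective φ
    (hsurj.bijective_of_nat_card_le hle), fun i => PresentedGroup.toGroup.of hrel⟩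

/-- A group with `x² = y³ = (xy)³ = 1` has at most twelve elements. -/
theorem card_le_twelve {G : Type*} [Group G] {x y : G} (hx : x ^ 2 = 1) (hy : y ^ 3 = 1)
    (hxy : (x * y) ^ 3 = 1) (hgen : Subgroup.closure ({x, y} : Set G) = ⊤) :
    Finite G ∧ Nat.card G ≤ 12 := by
  set b := y * x * y⁻¹ with hb
  have hxx : x * x = 1 := by rw [← sq]; exact hx
  have hbb : b * b = 1 := by
    rw [hb, show y * x * y⁻¹ * (y * x * y⁻¹) = y * (x * x) * y⁻¹ by group, hxx, mul_one, mul_inv_cancel]
  have hy2 : y⁻¹ = y * y := inv_eq_of_mul_eq_one_right (by rw [← mul_assoc, ← hy]; simp [pow_succ])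
  -- the conjugate by `y⁻¹` is `b x`
  have hc : y⁻¹ * x * y = b * x := by
    have h1 : x * b * (y⁻¹ * x * y) = 1 := by
      rw [← hxy, hb, hy2]
      simp only [pow_succ, pow_zero, one_mul, mul_assoc]
      rw [show ∀ z, y * (y * (y * z)) = z from fun z => by
        rw [← mul_assoc, ← mul_assoc, show y * y * y = y ^ 3 by simp [pow_succ], hy, one_mul]]
    rw [← inv_eq_of_mul_eq_one_right h1, _root_.mul_inv_rev, inv_eq_of_mul_eq_one_right hbb,
      inv_eq_of_mul_eq_one_right hxx]
  have hcc : b * x * (b * x) = 1 := by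
    rw [← hc, show y⁻¹ * x * y * (y⁻¹ * x * y) = y⁻¹ * (x * x) * y by group, hxx, mul_one, inv_mul_cancel]
  have hcomm : Commute b x := by
    have h2 := inv_eq_of_mul_eq_one_right hcc
    rw [_root_.mul_inv_rev, inv_eq_of_mul_eq_one_right hbb, inv_eq_of_mul_eq_one_right hxx] at h2
    exact h2.symm
  let nf : ZMod 3 × ZMod 2 × ZMod 2 → G := fun c => y ^ c.1.val * b ^ c.2.1.val * x ^ c.2.2.val
  have hnf : ∀ i j k : ℕ, ∃ c, nf c = y ^ i * b ^ j * x ^ k := fun i j k =>
    ⟨((i : ZMod 3), (j : ZMod 2), (k : ZMod 2)), by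
      simp only [nf, ZMod.val_natCast]
      rw [← pow_eq_pow_mod _ hy, ← pow_eq_pow_mod _ (show b ^ 2 = 1 by rw [sq]; exact hbb),
        ← pow_eq_pow_mod _ hx]⟩
  have hstep : ∀ i j k : ℕ, (∃ c, nf c = y ^ i * b ^ j * x ^ k * x) ∧
      ∃ c, nf c = y ^ i * b ^ j * x ^ k * y := by
    intro i j k
    refine ⟨(hnf i j (k + 1)).imp fun c hc => by rw [hc, pow_succ, ← mul_assoc], ?_⟩
    obtain ⟨c, hc'⟩ := hnf (i + 1) k (j + k)
    refine ⟨c, hc'.trans ?_⟩
    have h1 : b ^ j * y = y * x ^ j := by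
      rw [show b ^ j = y * x ^ j * y⁻¹ by rw [hb, ← MulAut.conj_apply, ← map_pow, MulAut.conj_apply]]
      group
    have h2 : x ^ k * y = y * (b * x) ^ k := by
      rw [← hc, show y⁻¹ * x * y = y⁻¹ * x * y⁻¹⁻¹ by rw [inv_inv], ← MulAut.conj_apply, ← map_pow,
        MulAut.conj_apply, inv_inv]
      group
    calc y ^ (i + 1) * b ^ k * x ^ (j + k) = y ^ i * y * (x ^ j * (b * x) ^ k) := by
          rw [hcomm.mul_pow, ← mul_assoc (x ^ j), (hcomm.symm.pow_pow j k).eq, pow_succ, pow_add]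
          group
      _ = y ^ i * (y * x ^ j) * (b * x) ^ k := by group
      _ = y ^ i * (b ^ j * y) * (b * x) ^ k := by rw [h1]
      _ = y ^ i * b ^ j * (y * (b * x) ^ k) := by group
      _ = y ^ i * b ^ j * (x ^ k * y) := by rw [h2]
      _ = _ := by group
  have hsurj : Function.Surjective nf := by
    intro g
    have hg : g ∈ Subgroup.closure ({x, y} : Set G) := hgen ▸ Subgroup.mem_top g
    induction hg using Subgroup.closure_induction_right with
    | one => exact (hnf 0 0 0).imp fun c hc => by rw [hc]; simp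
    | mul_right g _ z hz ih =>
      obtain ⟨c, rfl⟩ := ih
      rcases hz with hz | hz
      · rw [hz]; exact (hstep _ _ _).1
      · rw [Set.mem_singleton_iff.1 hz]; exact (hstep _ _ _).2
    | mul_inv_cancel g _ z hz ih =>
      obtain ⟨c, rfl⟩ := ih
      rcases hz with hz | hz
      · rw [hz, inv_eq_of_mul_eq_one_right hxx]; exact (hstep _ _ _).1
      · rw [Set.mem_singleton_iff.1 hz]
        obtain ⟨c₁, e₁⟩ := (hstep c.1.val c.2.1.val c.2.2.val).2
        obtain ⟨c₂, e₂⟩ := (hstep c₁.1.val c₁.2.1.val c₁.2.2.val).2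
        refine ⟨c₂, ?_⟩
        rw [e₂, show y ^ c₁.1.val * b ^ c₁.2.1.val * x ^ c₁.2.2.val = nf c₁ from rfl, e₁, hy2,
          ← mul_assoc]
  have : Finite G := Finite.of_surjective nf hsurj
  refine ⟨this, (Nat.card_le_card_of_surjective nf hsurj).trans (le_of_eq ?_)⟩
  simp

/-- `A₄` on two generators with three relations. -/
theorem alt_four : ∃ v : Fin 2 → alternatingGroup (Fin 4), HasPres v 3 := by
  let a : alternatingGroup (Fin 4) :=
    ⟨Equiv.swap 0 1 * Equiv.swap 2 3, Equiv.Perm.mem_alternatingGroup.2 (by decide)⟩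
  let b : alternatingGroup (Fin 4) :=
    ⟨Equiv.swap 0 1 * Equiv.swap 1 2, Equiv.Perm.mem_alternatingGroup.2 (by decide)⟩
  refine ⟨![a, b], hasPres_of_bound _ ?_ ![FreeGroup.of 0 ^ 2, FreeGroup.of 1 ^ 3,
    (FreeGroup.of 0 * FreeGroup.of 1) ^ 3] ?_ fun G _ x y hgen hl => ?_⟩
  · rw [Matrix.range_cons_cons_empty, eq_top_iff]
    intro g _
    have hall : ∀ g : alternatingGroup (Fin 4), ∃ i : Fin 3, ∃ j k : Fin 2,
        g = b ^ i.val * (b * a * b⁻¹) ^ j.val * a ^ k.val := by decide +kernel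
    obtain ⟨i, j, k, rfl⟩ := hall g
    have ha : a ∈ Subgroup.closure ({a, b} : Set (alternatingGroup (Fin 4))) :=
      Subgroup.subset_closure (Or.inl rfl)
    have hb : b ∈ Subgroup.closure ({a, b} : Set (alternatingGroup (Fin 4))) :=
      Subgroup.subset_closure (Or.inr rfl)
    exact mul_mem (mul_mem (pow_mem hb _) (pow_mem (mul_mem (mul_mem hb ha) (inv_mem hb)) _))
      (pow_mem ha _)
  · intro l
    fin_cases l <;> simp <;> decide +kernel
  · have h0 := hl 0; have h1 := hl 1; have h2 := hl 2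
    simp at h0 h1 h2
    refine (card_le_twelve h0 h1 h2 hgen).imp id fun h => h.trans (le_of_eq ?_)
    rw [Nat.card_eq_fintype_card]
    decide +kernel

/-- `A₅` on two generators with three relations. -/
theorem alt_five : ∃ v : Fin 2 → alternatingGroup (Fin 5), HasPres v 3 := by
  obtain ⟨a, b, ha, hb, hab, -, hgen⟩ := CfsgLib.Icosahedral.exists_alt_five_gens
  refine ⟨![a, b], hasPres_of_bound _ (by rw [Matrix.range_cons_cons_empty]; exact hgen)
    ![FreeGroup.of 0 ^ 3, FreeGroup.of 1 ^ 5, (FreeGroup.of 0 * FreeGroup.of 1) ^ 2] ?_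
    fun G _ x y hg hl => ?_⟩
  · intro l; fin_cases l <;> simp [ha, hb, hab]
  · have h0 := hl 0; have h1 := hl 1; have h2 := hl 2
    simp at h0 h1 h2
    refine (CfsgLib.Icosahedral.finite_card_le_sixty h0 h1 h2 hg).imp id fun h => h.trans (le_of_eq ?_)
    rw [Nat.card_eq_fintype_card]
    decide +kernel

end CfsgLib.SLPresent
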