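import Cfsg.Agent.Lib.SLPresent.Steinberg

/-!
From finitely many relations over an alternating group of indices to the Steinberg relations.
-/

set_option autoImplicit false

namespace CfsgLib.SLPresent

open Equiv

variable {n : ℕ}

/-- The `k`-th of the first four indices. -/
abbrev idx (hn : 4 ≤ n) (k : Fin 4) : Fin n := Fin.castLE hn k

theorem idx_ne (hn : 4 ≤ n) {a b : Fin 4} (h : a ≠ b) : idx hn a ≠ idx hn b :=
  fun e => h (Fin.castLE_injective hn e)

/-- The product of two transpositions. -/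
def twoSwap {a b c d : Fin n} (hab : a ≠ b) (hcd : c ≠ d) : alternatingGroup (Fin n) :=
  ⟨swap a b * swap c d, Perm.mem_alternatingGroup.2 (by
    rw [map_mul, Perm.sign_swap hab, Perm.sign_swap hcd]; rfl)⟩

/-- The three-cycle on the first three indices. -/
def cyc (hn : 4 ≤ n) : alternatingGroup (Fin n) :=
  twoSwap (idx_ne hn (show (0 : Fin 4) ≠ 1 by decide)) (idx_ne hn (show (1 : Fin 4) ≠ 2 by decide))

/-- The double transposition on the first four indices. -/
def inv2 (hn : 4 ≤ n) : alternatingGroup (Fin n) :=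
  twoSwap (idx_ne hn (show (0 : Fin 4) ≠ 1 by decide)) (idx_ne hn (show (2 : Fin 4) ≠ 3 by decide))

/-- An even permutation fixing the first index and moving the second to the third. -/
def shift (hn : 4 ≤ n) : alternatingGroup (Fin n) :=
  twoSwap (idx_ne hn (show (1 : Fin 4) ≠ 2 by decide)) (idx_ne hn (show (2 : Fin 4) ≠ 3 by decide))

theorem swap_idx (hn : 4 ≤ n) (a b c : Fin 4) :
    swap (idx hn a) (idx hn b) (idx hn c) = idx hn (swap a b c) :=
  ((Fin.castLE_injective hn).swap_apply a b c)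

theorem twoSwap_idx (hn : 4 ≤ n) {a b c d : Fin 4} (hab : a ≠ b) (hcd : c ≠ d) (k : Fin 4) :
    (twoSwap (idx_ne hn hab) (idx_ne hn hcd) : Perm (Fin n)) (idx hn k) =
      idx hn (swap a b (swap c d k)) := by
  show swap _ _ (swap _ _ _) = _
  rw [swap_idx, swap_idx]

theorem cyc_apply (hn : 4 ≤ n) : (cyc hn : Perm (Fin n)) (idx hn 0) = idx hn 1 ∧
    (cyc hn : Perm (Fin n)) (idx hn 1) = idx hn 2 ∧ (cyc hn : Perm (Fin n)) (idx hn 2) = idx hn 0 := by
  refine ⟨?_, ?_, ?_⟩ <;> exact (twoSwap_idx hn (by decide) (by decide) _).trans (congrArg (idx hn) (by decide))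

theorem inv2_apply (hn : 4 ≤ n) : (inv2 hn : Perm (Fin n)) (idx hn 0) = idx hn 1 ∧
    (inv2 hn : Perm (Fin n)) (idx hn 1) = idx hn 0 ∧ (inv2 hn : Perm (Fin n)) (idx hn 2) = idx hn 3 := by
  refine ⟨?_, ?_, ?_⟩ <;> exact (twoSwap_idx hn (by decide) (by decide) _).trans (congrArg (idx hn) (by decide))

theorem shift_apply (hn : 4 ≤ n) : (shift hn : Perm (Fin n)) (idx hn 0) = idx hn 0 ∧
    (shift hn : Perm (Fin n)) (idx hn 1) = idx hn 2 := by
  refine ⟨?_, ?_⟩ <;> exact (twoSwap_idx hn (by decide) (by decide) _).trans (congrArg (idx hn) (by decide))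

theorem exists_perm_extend {α : Type*} [Finite α] {k : ℕ} {f g : Fin k → α}
    (hf : Function.Injective f) (hg : Function.Injective g) :
    ∃ σ : Perm α, ∀ i, σ (f i) = g i := by
  classical
  have := Fintype.ofFinite α
  refine ⟨Equiv.extendSubtype ((Equiv.ofInjective f hf).symm.trans (Equiv.ofInjective g hg)),
    fun i => ?_⟩
  rw [Equiv.extendSubtype_apply_of_mem _ _ ⟨i, rfl⟩]
  simp [Equiv.ofInjective_symm_apply]

/-- Four distinct indices, up to exchanging the last two, are an even image of the first four. -/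
theorem exists_even (hn : 4 ≤ n) {g : Fin 4 → Fin n} (hg : Function.Injective g) :
    ∃ σ : alternatingGroup (Fin n), (σ : Perm (Fin n)) (idx hn 0) = g 0 ∧
      (σ : Perm (Fin n)) (idx hn 1) = g 1 ∧
      (((σ : Perm (Fin n)) (idx hn 2) = g 2 ∧ (σ : Perm (Fin n)) (idx hn 3) = g 3) ∨
      ((σ : Perm (Fin n)) (idx hn 3) = g 2 ∧ (σ : Perm (Fin n)) (idx hn 2) = g 3)) := by
  obtain ⟨τ, hτ⟩ := exists_perm_extend (Fin.castLE_injective hn) hg
  rcases Int.units_eq_one_or (Perm.sign τ) with h | h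
  · exact ⟨⟨τ, Perm.mem_alternatingGroup.2 h⟩, hτ 0, hτ 1, Or.inl ⟨hτ 2, hτ 3⟩⟩
  · refine ⟨⟨τ * swap (idx hn 2) (idx hn 3), Perm.mem_alternatingGroup.2 (by
      rw [map_mul, h, Perm.sign_swap (idx_ne hn (show (2 : Fin 4) ≠ 3 by decide))]; rfl)⟩,
      ?_, ?_, Or.inr ⟨?_, ?_⟩⟩ <;>
    · rw [Subgroup.coe_mk, Perm.mul_apply, swap_idx]
      exact hτ _

theorem exists_fourth (hn : 4 ≤ n) (a b c : Fin n) : ∃ d, d ≠ a ∧ d ≠ b ∧ d ≠ c := by
  classical
  obtain ⟨d, -, hd⟩ := Finset.exists_mem_notMem_of_card_lt_card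
    (s := ({a, b, c} : Finset (Fin n))) (t := Finset.univ)
    (lt_of_le_of_lt Finset.card_le_three (by rw [Finset.card_univ, Fintype.card_fin]; omega))
  simp only [Finset.mem_insert, Finset.mem_singleton, not_or] at hd
  exact ⟨d, hd.1, hd.2.1, hd.2.2⟩

theorem inj_four {α : Type*} {a b c d : α} (hab : a ≠ b) (hac : a ≠ c) (had : a ≠ d) (hbc : b ≠ c)
    (hbd : b ≠ d) (hcd : c ≠ d) : Function.Injective ![a, b, c, d] := by
  intro i j h
  fin_cases i <;> fin_cases j <;>
    simp [hab, hac, had, hbc, hbd, hcd, hab.symm, hac.symm, had.symm, hbc.symm, hbd.symm, hcd.symm] at h ⊢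

/-- Three distinct indices are an even image of the first three, or of the first two and the fourth. -/
theorem exists_even_three (hn : 4 ≤ n) {a b c : Fin n} (hab : a ≠ b) (hac : a ≠ c) (hbc : b ≠ c) :
    ∃ σ : alternatingGroup (Fin n), (σ : Perm (Fin n)) (idx hn 0) = a ∧
      (σ : Perm (Fin n)) (idx hn 1) = b ∧
      ((σ : Perm (Fin n)) (idx hn 2) = c ∨ (σ : Perm (Fin n)) (idx hn 3) = c) := by
  obtain ⟨d, hda, hdb, hdc⟩ := exists_fourth hn a b c
  obtain ⟨σ, h0, h1, h⟩ := exists_even hn (inj_four hab hac hda.symm hbc hdb.symm hdc.symm)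
  exact ⟨σ, h0, h1, h.imp And.left And.left⟩

/-- Three distinct indices or their reversal are an even image of the first three. -/
theorem exists_even_rev (hn : 4 ≤ n) {a b c : Fin n} (hab : a ≠ b) (hac : a ≠ c) (hbc : b ≠ c) :
    ∃ σ : alternatingGroup (Fin n), (σ : Perm (Fin n)) (idx hn 1) = b ∧
      (((σ : Perm (Fin n)) (idx hn 0) = a ∧ (σ : Perm (Fin n)) (idx hn 2) = c) ∨
      ((σ : Perm (Fin n)) (idx hn 0) = c ∧ (σ : Perm (Fin n)) (idx hn 2) = a)) := by
  obtain ⟨d, hda, hdb, hdc⟩ := exists_fourth hn a b c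
  obtain ⟨σ, h0, h1, h | h⟩ := exists_even hn (inj_four hab hac hda.symm hbc hdb.symm hdc.symm)
  · exact ⟨σ, h1, Or.inl ⟨h0, h.1⟩⟩
  · refine ⟨σ * twoSwap (idx_ne hn (show (2 : Fin 4) ≠ 3 by decide))
      (idx_ne hn (show (0 : Fin 4) ≠ 2 by decide)), ?_, Or.inr ⟨?_, ?_⟩⟩ <;>
      rw [Subgroup.coe_mul, Perm.mul_apply, twoSwap_idx hn (show (2 : Fin 4) ≠ 3 by decide)
        (show (0 : Fin 4) ≠ 2 by decide)]
    · exact h1
    · exact h.1
    · exact h0

theorem exists_even_two (hn : 4 ≤ n) {a b : Fin n} (hab : a ≠ b) :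
    ∃ σ : alternatingGroup (Fin n), (σ : Perm (Fin n)) (idx hn 0) = a ∧
      (σ : Perm (Fin n)) (idx hn 1) = b := by
  obtain ⟨c, hca, hcb, -⟩ := exists_fourth hn a b a
  obtain ⟨σ, h0, h1, -⟩ := exists_even_three hn hab hca.symm hcb.symm
  exact ⟨σ, h0, h1⟩

variable {G : Type*} [Group G] {F : Type*} [Field F]

open Classical in
/-- The translates of a map by the alternating group. -/
noncomputable def trans (hn : 4 ≤ n) (M : alternatingGroup (Fin n) →* G) (x : G) (i j : Fin n) : G :=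
  if h : i ≠ j then MulAut.conj (M (exists_even_two hn h).choose) x else 1

theorem trans_eq (hn : 4 ≤ n) {M : alternatingGroup (Fin n) →* G} {x : G}
    (hx : ∀ σ : alternatingGroup (Fin n), (σ : Perm (Fin n)) (idx hn 0) = idx hn 0 →
      (σ : Perm (Fin n)) (idx hn 1) = idx hn 1 → Commute (M σ) x)
    (σ : alternatingGroup (Fin n)) {i j : Fin n} (hi : (σ : Perm (Fin n)) (idx hn 0) = i)
    (hj : (σ : Perm (Fin n)) (idx hn 1) = j) : trans hn M x i j = MulAut.conj (M σ) x := by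
  have hij : i ≠ j := fun e => idx_ne hn (show (0 : Fin 4) ≠ 1 by decide)
    ((σ : Perm (Fin n)).injective (hi.trans (e.trans hj.symm)))
  rw [trans, dif_pos hij]
  obtain ⟨h0, h1⟩ := (exists_even_two hn hij).choose_spec
  set τ := (exists_even_two hn hij).choose
  have hc := hx (τ⁻¹ * σ)
    (by rw [Subgroup.coe_mul, Perm.mul_apply, hi, Subgroup.coe_inv, Perm.inv_eq_iff_eq]; exact h0.symm)
    (by rw [Subgroup.coe_mul, Perm.mul_apply, hj, Subgroup.coe_inv, Perm.inv_eq_iff_eq]; exact h1.symm)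
  rw [show M σ = M τ * M (τ⁻¹ * σ) by rw [← map_mul, mul_inv_cancel_left], map_mul, MulAut.mul_apply,
    MulAut.conj_apply (M (τ⁻¹ * σ)), hc.eq, mul_inv_cancel_right]

theorem trans_equiv (hn : 4 ≤ n) {M : alternatingGroup (Fin n) →* G} {x : G}
    (hx : ∀ σ : alternatingGroup (Fin n), (σ : Perm (Fin n)) (idx hn 0) = idx hn 0 →
      (σ : Perm (Fin n)) (idx hn 1) = idx hn 1 → Commute (M σ) x)
    (σ : alternatingGroup (Fin n)) {i j : Fin n} (hij : i ≠ j) :
    MulAut.conj (M σ) (trans hn M x i j) =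
      trans hn M x ((σ : Perm (Fin n)) i) ((σ : Perm (Fin n)) j) := by
  obtain ⟨τ, h0, h1⟩ := exists_even_two hn hij
  rw [trans_eq hn hx τ h0 h1, ← MulAut.mul_apply, ← map_mul, ← map_mul]
  exact (trans_eq hn hx _ (by rw [Subgroup.coe_mul, Perm.mul_apply, h0])
    (by rw [Subgroup.coe_mul, Perm.mul_apply, h1])).symm

/-- The root elements. -/
noncomputable def root (hn : 4 ≤ n) (M : alternatingGroup (Fin n) →* G) (ψ : F → G) (i j : Fin n)
    (a : F) : G := trans hn M (ψ a) i j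

/-- The hypotheses, provable from finitely many relations. -/
structure Data (hn : 4 ≤ n) (M : alternatingGroup (Fin n) →* G) (u h : G) (ψ : F → G) (ω : F) :
    Prop where
  ω_ne : ω ≠ 0
  generate : ∀ t : F, t ≠ 0 → ∃ k : ℕ, t = ω ^ k
  ind : ∀ S : F → Prop, S 0 → S 1 → (∀ a b, S a → S b → S (a + b)) → (∀ a, S a → S (ω ^ 2 * a)) →
    ∀ b, S b
  map_add : ∀ a b, ψ (a + b) = ψ a * ψ b
  map_one : ψ 1 = u
  conj_h : ∀ t, MulAut.conj h (ψ t) = ψ (ω ^ 2 * t)
  conj_g : ∀ t, MulAut.conj (MulAut.conj (M (cyc hn)) h) (ψ t) = ψ (ω⁻¹ * t)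
  stab : ∀ σ : alternatingGroup (Fin n), (σ : Perm (Fin n)) (idx hn 0) = idx hn 0 →
    (σ : Perm (Fin n)) (idx hn 1) = idx hn 1 → Commute (M σ) u ∧ Commute (M σ) h
  inv : MulAut.conj (M (inv2 hn)) h = h⁻¹
  hg : Commute h (MulAut.conj (M (cyc hn)) h)
  prod : h * MulAut.conj (M (cyc hn)) h * MulAut.conj (M (cyc hn)) (MulAut.conj (M (cyc hn)) h) = 1
  adj : MulAut.conj h (MulAut.conj (M (shift hn)) u) = MulAut.conj (M (shift hn)) (ψ ω)
  relA : ∀ k : Fin 4, k = 2 ∨ k = 3 → root hn M ψ (idx hn 0) (idx hn 1) 1 *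
    root hn M ψ (idx hn 1) (idx hn k) 1 =
    root hn M ψ (idx hn 0) (idx hn k) 1 * root hn M ψ (idx hn 1) (idx hn k) 1 *
      root hn M ψ (idx hn 0) (idx hn 1) 1
  relB : Commute (root hn M ψ (idx hn 0) (idx hn 1) 1) (root hn M ψ (idx hn 0) (idx hn 2) 1)
  relC : Commute (root hn M ψ (idx hn 0) (idx hn 1) 1) (root hn M ψ (idx hn 2) (idx hn 1) 1)
  relD : Commute (root hn M ψ (idx hn 0) (idx hn 1) 1) (root hn M ψ (idx hn 2) (idx hn 3) 1) ∧
    Commute (root hn M ψ (idx hn 0) (idx hn 1) 1) (root hn M ψ (idx hn 3) (idx hn 2) 1)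
  crel : M (cyc hn) = u⁻¹ * MulAut.conj (M (inv2 hn)) u * u⁻¹ *
    MulAut.conj (M (cyc hn)) (u⁻¹ * MulAut.conj (M (inv2 hn)) u * u⁻¹)
  gen : Subgroup.closure (Set.range M ∪ {u, h}) = ⊤

namespace Data

variable {hn : 4 ≤ n} {M : alternatingGroup (Fin n) →* G} {u h : G} {ψ : F → G} {ω : F}
  (D : Data hn M u h ψ ω)

local notation "X" => root hn M ψ
local notation "T" => trans hn M h
local notation "q" => idx hn

include D

theorem stab_h (σ : alternatingGroup (Fin n)) (h0 : (σ : Perm (Fin n)) (q 0) = q 0)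
    (h1 : (σ : Perm (Fin n)) (q 1) = q 1) : Commute (M σ) h := (D.stab σ h0 h1).2

theorem stab_ψ (t : F) (σ : alternatingGroup (Fin n)) (h0 : (σ : Perm (Fin n)) (q 0) = q 0)
    (h1 : (σ : Perm (Fin n)) (q 1) = q 1) : Commute (M σ) (ψ t) := by
  refine D.ind (fun t => Commute (M σ) (ψ t)) ?_ ?_ (fun a b ha hb => ?_) (fun a ha => ?_) t
  · have h2 := D.map_add 0 0
    rw [add_zero] at h2
    rw [show ψ 0 = 1 from left_eq_mul.1 h2]
    exact Commute.one_right _
  · rw [D.map_one]; exact (D.stab σ h0 h1).1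
  · rw [D.map_add]; exact ha.mul_right hb
  · rw [← D.conj_h, MulAut.conj_apply]
    exact ((D.stab σ h0 h1).2.mul_right ha).mul_right (D.stab σ h0 h1).2.inv_right

theorem X_eq (σ : alternatingGroup (Fin n)) {i j : Fin n} (hi : (σ : Perm (Fin n)) (q 0) = i)
    (hj : (σ : Perm (Fin n)) (q 1) = j) (t : F) : X i j t = MulAut.conj (M σ) (ψ t) :=
  trans_eq hn (D.stab_ψ t) σ hi hj

theorem X_equiv (σ : alternatingGroup (Fin n)) {i j : Fin n} (hij : i ≠ j) (t : F) :
    MulAut.conj (M σ) (X i j t) = X ((σ : Perm (Fin n)) i) ((σ : Perm (Fin n)) j) t :=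
  trans_equiv hn (D.stab_ψ t) σ hij

theorem H_eq (σ : alternatingGroup (Fin n)) {i j : Fin n} (hi : (σ : Perm (Fin n)) (q 0) = i)
    (hj : (σ : Perm (Fin n)) (q 1) = j) : T i j = MulAut.conj (M σ) h :=
  trans_eq hn D.stab_h σ hi hj

theorem H_equiv (σ : alternatingGroup (Fin n)) {i j : Fin n} (hij : i ≠ j) :
    MulAut.conj (M σ) (T i j) = T ((σ : Perm (Fin n)) i) ((σ : Perm (Fin n)) j) :=
  trans_equiv hn D.stab_h σ hij

theorem X01 (t : F) : X (q 0) (q 1) t = ψ t := by
  rw [D.X_eq 1 (i := q 0) (j := q 1) rfl rfl, _root_.map_one M, _root_.map_one, MulAut.one_apply]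

theorem H01 : T (q 0) (q 1) = h := by
  rw [D.H_eq 1 (i := q 0) (j := q 1) rfl rfl, _root_.map_one M, _root_.map_one, MulAut.one_apply]

theorem X_add {i j : Fin n} (hij : i ≠ j) (a b : F) : X i j (a + b) = X i j a * X i j b := by
  obtain ⟨σ, hi, hj⟩ := exists_even_two hn hij
  rw [D.X_eq σ hi hj, D.X_eq σ hi hj, D.X_eq σ hi hj, D.map_add, _root_.map_mul]

theorem H_symm {i j : Fin n} (hij : i ≠ j) : T j i = (T i j)⁻¹ := by
  obtain ⟨σ, hi, hj⟩ := exists_even_two hn hij
  rw [D.H_eq σ hi hj, D.H_eq (σ * inv2 hn)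
    (by rw [Subgroup.coe_mul, Perm.mul_apply, (inv2_apply hn).1, hj])
    (by rw [Subgroup.coe_mul, Perm.mul_apply, (inv2_apply hn).2.1, hi]),
    _root_.map_mul, _root_.map_mul, MulAut.mul_apply, D.inv, map_inv]

theorem H12 : T (q 1) (q 2) = MulAut.conj (M (cyc hn)) h :=
  D.H_eq _ (cyc_apply hn).1 (cyc_apply hn).2.1

theorem H20 : T (q 2) (q 0) = MulAut.conj (M (cyc hn)) (MulAut.conj (M (cyc hn)) h) := by
  rw [← D.H12, D.H_equiv _ (idx_ne hn (by decide)), (cyc_apply hn).2.1, (cyc_apply hn).2.2]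

theorem base_tri : T (q 0) (q 1) * T (q 1) (q 2) * T (q 2) (q 0) = 1 := by
  rw [D.H01, D.H12, D.H20]; exact D.prod

theorem H_tri {a b c : Fin n} (hab : a ≠ b) (hac : a ≠ c) (hbc : b ≠ c) :
    T a b * T b c * T c a = 1 := by
  have key : ∀ a b c : Fin n, ∀ σ : alternatingGroup (Fin n), (σ : Perm (Fin n)) (q 0) = a →
      (σ : Perm (Fin n)) (q 1) = b → (σ : Perm (Fin n)) (q 2) = c → T a b * T b c * T c a = 1 := by
    intro a b c σ ha hb hc
    have h2 := congrArg (MulAut.conj (M σ)) D.base_tri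
    rw [_root_.map_mul, _root_.map_mul, _root_.map_one, D.H_equiv σ (idx_ne hn (by decide)),
      D.H_equiv σ (idx_ne hn (by decide)), D.H_equiv σ (idx_ne hn (by decide)), ha, hb, hc] at h2
    exact h2
  obtain ⟨σ, hb, ⟨ha, hc⟩ | ⟨hc, ha⟩⟩ := exists_even_rev hn hab hac hbc
  · exact key a b c σ ha hb hc
  · have h2 := key c b a σ hc hb ha
    rw [D.H_symm hbc, D.H_symm hab, D.H_symm hac.symm] at h2
    have h3 : (T c a * (T a b * T b c))⁻¹ = 1 := by rw [← h2]; group
    rw [inv_eq_one] at h3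
    rw [mul_eq_one_iff_eq_inv] at h3 ⊢
    rw [h3, inv_inv]

theorem H_split {a b c : Fin n} (hab : a ≠ b) (hac : a ≠ c) (hbc : b ≠ c) :
    T a c = T a b * T b c := by
  rw [mul_eq_one_iff_eq_inv.1 (D.H_tri hab hac hbc), D.H_symm hac, inv_inv]

theorem H_commute {a b c : Fin n} (hab : a ≠ b) (hac : a ≠ c) (hbc : b ≠ c) :
    Commute (T a b) (T b c) := by
  have key : ∀ a b c : Fin n, ∀ σ : alternatingGroup (Fin n), (σ : Perm (Fin n)) (q 0) = a →
      (σ : Perm (Fin n)) (q 1) = b → (σ : Perm (Fin n)) (q 2) = c → Commute (T a b) (T b c) := by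
    intro a b c σ ha hb hc
    have h2 := D.hg.map (MulAut.conj (M σ))
    rw [← D.H12, ← D.H_eq σ ha hb,
      D.H_equiv σ (idx_ne hn (show (1 : Fin 4) ≠ 2 by decide)), hb, hc] at h2
    exact h2
  obtain ⟨σ, hb, ⟨ha, hc⟩ | ⟨hc, ha⟩⟩ := exists_even_rev hn hab hac hbc
  · exact key a b c σ ha hb hc
  · have h2 := key c b a σ hc hb ha
    rw [D.H_symm hbc, D.H_symm hab] at h2
    exact (Commute.inv_inv_iff.1 h2).symm

omit D in
/-- `t` scales the root group `(i, j)` by `k`. -/
def Wt (hn : 4 ≤ n) (M : alternatingGroup (Fin n) →* G) (ψ : F → G) (t : G) (i j : Fin n) (k : F) :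
    Prop := ∀ a, MulAut.conj t (root hn M ψ i j a) = root hn M ψ i j (k * a)

omit D in
theorem Wt.mul {t s : G} {i j : Fin n} {k l : F} (ht : Wt hn M ψ t i j k) (hs : Wt hn M ψ s i j l) :
    Wt hn M ψ (t * s) i j (k * l) := fun a => by
  rw [_root_.map_mul, MulAut.mul_apply, hs, ht, mul_assoc]

omit D in
theorem Wt.inv {t : G} {i j : Fin n} {k : F} (ht : Wt hn M ψ t i j k) (hk : k ≠ 0) :
    Wt hn M ψ t⁻¹ i j k⁻¹ := fun a => by
  rw [map_inv, MulAut.inv_def, MulEquiv.symm_apply_eq, ht, mul_inv_cancel_left₀ hk]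

omit D in
theorem Wt.pow {t : G} {i j : Fin n} {k : F} (ht : Wt hn M ψ t i j k) :
    ∀ m : ℕ, Wt hn M ψ (t ^ m) i j (k ^ m)
  | 0 => fun a => by simp
  | m + 1 => by rw [pow_succ, pow_succ]; exact (Wt.pow ht m).mul ht

theorem move {t : G} {i j : Fin n} (hij : i ≠ j) {k : F} (ht : Wt hn M ψ t i j k)
    (σ : alternatingGroup (Fin n)) :
    Wt hn M ψ (MulAut.conj (M σ) t) ((σ : Perm (Fin n)) i) ((σ : Perm (Fin n)) j) k := fun a => by
  rw [← D.X_equiv σ hij, ← D.X_equiv σ hij, ← ht a, MulAut.conj_apply (M σ) t, _root_.map_mul,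
    _root_.map_mul, MulAut.mul_apply, MulAut.mul_apply, map_inv, MulAut.inv_apply_self]

theorem wt_h : Wt hn M ψ h (q 0) (q 1) (ω ^ 2) := fun a => by rw [D.X01, D.X01, D.conj_h]

theorem wt_20 : Wt hn M ψ (T (q 2) (q 0)) (q 0) (q 1) ω⁻¹ := by
  have hω := D.ω_ne
  have hg : Wt hn M ψ (T (q 1) (q 2)) (q 0) (q 1) ω⁻¹ := fun a => by
    rw [D.H12, D.X01, D.X01, D.conj_g]
  have h2 := D.base_tri
  rw [mul_eq_one_iff_eq_inv'] at h2
  rw [h2, D.H01, _root_.mul_inv_rev]
  have h3 := (hg.inv (inv_ne_zero hω)).mul (D.wt_h.inv (pow_ne_zero _ hω))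
  rwa [show ω⁻¹⁻¹ * (ω ^ 2)⁻¹ = ω⁻¹ by field_simp] at h3

theorem head_base {k : Fin 4} (hk : k = 2 ∨ k = 3) :
    Wt hn M ψ (T (q 0) (q 1)) (q 0) (q k) ω := by
  have hω := D.ω_ne
  rcases hk with rfl | rfl
  · have hs : ∀ t, X (q 0) (q 2) t = MulAut.conj (M (shift hn)) (ψ t) :=
      D.X_eq _ (shift_apply hn).1 (shift_apply hn).2
    have h02 : Wt hn M ψ (T (q 0) (q 2)) (q 0) (q 2) (ω ^ 2) := by
      have h2 := D.move (idx_ne hn (show (0 : Fin 4) ≠ 1 by decide)) D.wt_h (shift hn)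
      rwa [← D.H_eq _ (shift_apply hn).1 (shift_apply hn).2, (shift_apply hn).1,
        (shift_apply hn).2] at h2
    have hcomm : Commute (T (q 0) (q 1)) (T (q 0) (q 2)) := by
      rw [D.H_split (idx_ne hn (show (0 : Fin 4) ≠ 1 by decide)) (idx_ne hn (by decide))
        (idx_ne hn (show (1 : Fin 4) ≠ 2 by decide))]
      exact (Commute.refl _).mul_right
        (D.H_commute (idx_ne hn (by decide)) (idx_ne hn (by decide)) (idx_ne hn (by decide)))
    refine D.ind (fun t => MulAut.conj (T (q 0) (q 1)) (X (q 0) (q 2) t) = X (q 0) (q 2) (ω * t))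
      ?_ ?_ (fun a b ha hb => ?_) (fun a ha => ?_)
    · have h0 : X (q 0) (q 2) (0 : F) = 1 := by
        have h2 := D.X_add (idx_ne hn (show (0 : Fin 4) ≠ 2 by decide)) 0 0
        rw [add_zero] at h2
        exact left_eq_mul.1 h2
      rw [mul_zero, h0, _root_.map_one]
    · rw [mul_one, D.H01, hs, hs, D.map_one]; exact D.adj
    · rw [D.X_add (idx_ne hn (by decide)), _root_.map_mul, ha, hb, mul_add,
        D.X_add (idx_ne hn (by decide))]
    · rw [← h02 a, ← MulAut.mul_apply, ← _root_.map_mul, hcomm.eq, _root_.map_mul,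
        MulAut.mul_apply, ha, h02]
      congr 1
      ring
  · have h12 : Wt hn M ψ (T (q 0) (q 1)) (q 1) (q 2) ω⁻¹ := by
      have h2 := D.move (idx_ne hn (show (0 : Fin 4) ≠ 1 by decide)) D.wt_20 (cyc hn)
      rwa [D.H_equiv _ (idx_ne hn (by decide)), (cyc_apply hn).1, (cyc_apply hn).2.1,
        (cyc_apply hn).2.2] at h2
    have h2 := D.move (idx_ne hn (show (1 : Fin 4) ≠ 2 by decide)) h12 (inv2 hn)
    rw [D.H_equiv _ (idx_ne hn (by decide)), (inv2_apply hn).1, (inv2_apply hn).2.1,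
      (inv2_apply hn).2.2, D.H_symm (idx_ne hn (by decide))] at h2
    have h3 := h2.inv (inv_ne_zero hω)
    rwa [inv_inv, inv_inv] at h3

theorem head {i j k : Fin n} (hij : i ≠ j) (hik : i ≠ k) (hjk : j ≠ k) :
    Wt hn M ψ (T i k) i j ω := by
  obtain ⟨σ, hi, hk, hj | hj⟩ := exists_even_three hn hik hij hjk.symm
  · have h2 := D.move (idx_ne hn (show (0 : Fin 4) ≠ 2 by decide)) (D.head_base (Or.inl rfl)) σ
    rwa [D.H_equiv _ (idx_ne hn (by decide)), hi, hj, hk] at h2
  · have h2 := D.move (idx_ne hn (show (0 : Fin 4) ≠ 3 by decide)) (D.head_base (Or.inr rfl)) σ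
    rwa [D.H_equiv _ (idx_ne hn (by decide)), hi, hj, hk] at h2

theorem wt_self {i j : Fin n} (hij : i ≠ j) : Wt hn M ψ (T i j) i j (ω ^ 2) := by
  obtain ⟨σ, hi, hj⟩ := exists_even_two hn hij
  have h2 := D.move (idx_ne hn (show (0 : Fin 4) ≠ 1 by decide)) D.wt_h σ
  rwa [← D.H_eq σ hi hj, hi, hj] at h2

theorem tail {i j k : Fin n} (hij : i ≠ j) (hik : i ≠ k) (hjk : j ≠ k) :
    Wt hn M ψ (T k j) i j ω := by
  rw [D.H_split hik.symm hjk.symm hij, D.H_symm hik]
  have h2 := ((D.head hij hik hjk).inv D.ω_ne).mul (D.wt_self hij)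
  rwa [show ω⁻¹ * ω ^ 2 = ω by have := D.ω_ne; field_simp] at h2

/-- The weights of the torus on the root groups. -/
theorem weight {a b i j : Fin n} (hab : a ≠ b) (hij : i ≠ j) :
    Wt hn M ψ (T a b) i j (hVec a b ω i / hVec a b ω j) := by
  have hω := D.ω_ne
  have hne : ω⁻¹ ≠ 0 := inv_ne_zero hω
  by_cases hai : a = i
  · subst hai
    by_cases hbj : b = j
    · subst hbj
      convert D.wt_self hij using 1
      simp [hVec, hij.symm]; ring
    · convert D.head hij hab (Ne.symm hbj) using 1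
      simp [hVec, hij.symm, Ne.symm hbj]
  by_cases hbj : b = j
  · subst hbj
    convert D.tail hij (Ne.symm hai) hab.symm using 1
    simp [hVec, Ne.symm hai, hij, hab.symm]
  by_cases haj : a = j
  · subst haj
    by_cases hbi : b = i
    · subst hbi
      rw [D.H_symm hab.symm]
      convert (D.wt_self hij).inv (pow_ne_zero _ hω) using 1
      simp [hVec, hij]; field_simp
    · rw [D.H_symm (Ne.symm hab)]
      convert (D.tail hij (Ne.symm hbi) hab).inv hω using 1
      simp [hVec, hij, Ne.symm hbi]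
  by_cases hbi : b = i
  · subst hbi
    rw [D.H_symm hab.symm]
    convert (D.head hij (Ne.symm hai) (Ne.symm haj)).inv hω using 1
    simp [hVec, hij.symm, Ne.symm hai, Ne.symm haj]
  · rw [D.H_split hai hab (Ne.symm hbi), D.H_symm (Ne.symm hai)]
    convert ((D.head hij (Ne.symm hai) (Ne.symm haj)).inv hω).mul
      (D.head hij (Ne.symm hbi) (Ne.symm hbj)) using 1
    simp [hVec, Ne.symm hai, Ne.symm haj, Ne.symm hbi, Ne.symm hbj, hω]

theorem X_zero {i j : Fin n} (hij : i ≠ j) : X i j (0 : F) = 1 := by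
  have h2 := D.X_add hij 0 0
  rw [add_zero] at h2
  exact left_eq_mul.1 h2

theorem form_one {i j k : Fin n} (hij : i ≠ j) (hjk : j ≠ k) (hik : i ≠ k) :
    X i j 1 * X j k 1 = X i k 1 * X j k 1 * X i j 1 := by
  have key : ∀ (m : Fin 4), m = 2 ∨ m = 3 → ∀ σ : alternatingGroup (Fin n),
      (σ : Perm (Fin n)) (q 0) = i → (σ : Perm (Fin n)) (q 1) = j → (σ : Perm (Fin n)) (q m) = k →
      X i j 1 * X j k 1 = X i k 1 * X j k 1 * X i j 1 := by
    intro m hm σ hi hj hk
    have h1 : q 1 ≠ q m := idx_ne hn (by rcases hm with rfl | rfl <;> decide)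
    have h0 : q 0 ≠ q m := idx_ne hn (by rcases hm with rfl | rfl <;> decide)
    have h2 := congrArg (MulAut.conj (M σ)) (D.relA m hm)
    rwa [_root_.map_mul, _root_.map_mul, _root_.map_mul, D.X_equiv σ (idx_ne hn (by decide)),
      D.X_equiv σ h1, D.X_equiv σ h0, hi, hj, hk] at h2
  obtain ⟨σ, hi, hj, hk | hk⟩ := exists_even_three hn hij hik hjk
  · exact key 2 (Or.inl rfl) σ hi hj hk
  · exact key 3 (Or.inr rfl) σ hi hj hk

theorem wtv {a b i j : Fin n} (hab : a ≠ b) (hij : i ≠ j) {k : F}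
    (hk : hVec a b ω i / hVec a b ω j = k) : Wt hn M ψ (T a b) i j k :=
  hk ▸ D.weight hab hij

theorem form {i j k : Fin n} (hij : i ≠ j) (hjk : j ≠ k) (hik : i ≠ k) (a b : F) :
    X i j a * X j k b = X i k (a * b) * X j k b * X i j a := by
  rcases eq_or_ne a 0 with rfl | ha
  · rw [zero_mul, D.X_zero hij, D.X_zero hik]; simp
  rcases eq_or_ne b 0 with rfl | hb
  · rw [mul_zero, D.X_zero hjk, D.X_zero hik]; simp
  obtain ⟨r, rfl⟩ := D.generate a ha
  obtain ⟨s, rfl⟩ := D.generate b hb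
  obtain ⟨l, hli, hlj, hlk⟩ := exists_fourth hn i j k
  have hω := D.ω_ne
  have h1 : Wt hn M ψ (T i l ^ r * T l k ^ s) i j (ω ^ r) := by
    convert ((D.wtv hli.symm hij (k := ω) (by simp [hVec, hij.symm, hlj.symm])).pow r).mul
      ((D.wtv hlk hij (k := 1) (by simp [hVec, hli.symm, hik, hlj.symm, hjk])).pow s) using 1
    simp
  have h2 : Wt hn M ψ (T i l ^ r * T l k ^ s) j k (ω ^ s) := by
    convert ((D.wtv hli.symm hjk (k := 1) (by simp [hVec, hij.symm, hlj.symm, hik.symm, hlk.symm])).pow r).mul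
      ((D.wtv hlk hjk (k := ω) (by simp [hVec, hlj.symm, hjk, hlk.symm])).pow s) using 1
    simp
  have h3 : Wt hn M ψ (T i l ^ r * T l k ^ s) i k (ω ^ r * ω ^ s) :=
    ((D.wtv hli.symm hik (k := ω) (by simp [hVec, hik.symm, hlk.symm])).pow r).mul
      ((D.wtv hlk hik (k := ω) (by simp [hVec, hli.symm, hik, hlk.symm])).pow s)
  have h4 := congrArg (MulAut.conj (T i l ^ r * T l k ^ s)) (D.form_one hij hjk hik)
  rwa [_root_.map_mul (MulAut.conj (T i l ^ r * T l k ^ s)), _root_.map_mul (MulAut.conj (T i l ^ r * T l k ^ s)), _root_.map_mul (MulAut.conj (T i l ^ r * T l k ^ s)), h1, h2, h3, mul_one, mul_one, mul_one] at h4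

omit D in
/-- Scaling a commuting pair. -/
theorem scale {t : G} {i j k l : Fin n} {x y : F} {a b : F} (h1 : Wt hn M ψ t i j x)
    (h2 : Wt hn M ψ t k l y) (hc : Commute (X i j a) (X k l b)) :
    Commute (X i j (x * a)) (X k l (y * b)) := by
  have h3 := hc.map (MulAut.conj t)
  rwa [h1, h2] at h3

theorem row {i j k : Fin n} (hij : i ≠ j) (hik : i ≠ k) (hjk : j ≠ k) (a b : F) :
    Commute (X i j a) (X i k b) := by
  have base : Commute (X i j 1) (X i k 1) := by
    have key : ∀ j k : Fin n, ∀ σ : alternatingGroup (Fin n), (σ : Perm (Fin n)) (q 0) = i →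
        (σ : Perm (Fin n)) (q 1) = j → (σ : Perm (Fin n)) (q 2) = k →
        Commute (X i j 1) (X i k 1) := by
      intro j k σ hi hj hk
      have h2 := D.relB.map (MulAut.conj (M σ))
      rwa [D.X_equiv σ (idx_ne hn (by decide)), D.X_equiv σ (idx_ne hn (by decide)), hi, hj, hk] at h2
    obtain ⟨σ, hi, ⟨hj, hk⟩ | ⟨hk, hj⟩⟩ := exists_even_rev hn hij.symm hjk hik
    · exact (key k j (σ * cyc hn)
        (by rw [Subgroup.coe_mul, Perm.mul_apply, (cyc_apply hn).1, hi])
        (by rw [Subgroup.coe_mul, Perm.mul_apply, (cyc_apply hn).2.1, hk])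
        (by rw [Subgroup.coe_mul, Perm.mul_apply, (cyc_apply hn).2.2, hj])).symm
    · exact key j k (σ * cyc hn)
        (by rw [Subgroup.coe_mul, Perm.mul_apply, (cyc_apply hn).1, hi])
        (by rw [Subgroup.coe_mul, Perm.mul_apply, (cyc_apply hn).2.1, hj])
        (by rw [Subgroup.coe_mul, Perm.mul_apply, (cyc_apply hn).2.2, hk])
  rcases eq_or_ne a 0 with rfl | ha
  · rw [D.X_zero hij]; exact Commute.one_left _
  rcases eq_or_ne b 0 with rfl | hb
  · rw [D.X_zero hik]; exact Commute.one_right _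
  obtain ⟨r, rfl⟩ := D.generate a ha
  obtain ⟨s, rfl⟩ := D.generate b hb
  obtain ⟨l, hli, hlj, hlk⟩ := exists_fourth hn i j k
  have h1 : Wt hn M ψ (T l j ^ r * T l k ^ s) i j (ω ^ r) := by
    convert ((D.wtv hlj hij (k := ω) (by simp [hVec, hli.symm, hij, hlj.symm])).pow r).mul
      ((D.wtv hlk hij (k := 1) (by simp [hVec, hli.symm, hik, hlj.symm, hjk])).pow s) using 1
    simp
  have h2 : Wt hn M ψ (T l j ^ r * T l k ^ s) i k (ω ^ s) := by
    convert ((D.wtv hlj hik (k := 1) (by simp [hVec, hli.symm, hij, hlk.symm, hjk.symm])).pow r).mul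
      ((D.wtv hlk hik (k := ω) (by simp [hVec, hli.symm, hik, hlk.symm])).pow s) using 1
    simp
  simpa using scale h1 h2 base

theorem col {i j k : Fin n} (hij : i ≠ j) (hkj : k ≠ j) (hik : i ≠ k) (a b : F) :
    Commute (X i j a) (X k j b) := by
  have base : Commute (X i j 1) (X k j 1) := by
    have key : ∀ i k : Fin n, ∀ σ : alternatingGroup (Fin n), (σ : Perm (Fin n)) (q 0) = i →
        (σ : Perm (Fin n)) (q 1) = j → (σ : Perm (Fin n)) (q 2) = k →
        Commute (X i j 1) (X k j 1) := by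
      intro i k σ hi hj hk
      have h2 := D.relC.map (MulAut.conj (M σ))
      rwa [D.X_equiv σ (idx_ne hn (by decide)), D.X_equiv σ (idx_ne hn (by decide)), hi, hj, hk] at h2
    obtain ⟨σ, hj, ⟨hi, hk⟩ | ⟨hk, hi⟩⟩ := exists_even_rev hn hij hik hkj.symm
    · exact key i k σ hi hj hk
    · exact (key k i σ hk hj hi).symm
  rcases eq_or_ne a 0 with rfl | ha
  · rw [D.X_zero hij]; exact Commute.one_left _
  rcases eq_or_ne b 0 with rfl | hb
  · rw [D.X_zero hkj]; exact Commute.one_right _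
  obtain ⟨r, rfl⟩ := D.generate a ha
  obtain ⟨s, rfl⟩ := D.generate b hb
  obtain ⟨l, hli, hlj, hlk⟩ := exists_fourth hn i j k
  have h1 : Wt hn M ψ (T i l ^ r * T k l ^ s) i j (ω ^ r) := by
    convert ((D.wtv hli.symm hij (k := ω) (by simp [hVec, hij.symm, hlj.symm])).pow r).mul
      ((D.wtv hlk.symm hij (k := 1) (by simp [hVec, hik, hli.symm, hkj.symm, hlj.symm])).pow s) using 1
    simp
  have h2 : Wt hn M ψ (T i l ^ r * T k l ^ s) k j (ω ^ s) := by
    convert ((D.wtv hli.symm hkj (k := 1) (by simp [hVec, hik.symm, hlk.symm, hij.symm, hlj.symm])).pow r).mul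
      ((D.wtv hlk.symm hkj (k := ω) (by simp [hVec, hkj.symm, hlj.symm])).pow s) using 1
    simp
  simpa using scale h1 h2 base

theorem apart {i j k l : Fin n} (hij : i ≠ j) (hkl : k ≠ l) (hik : i ≠ k) (hil : i ≠ l)
    (hjk : j ≠ k) (hjl : j ≠ l) (a b : F) : Commute (X i j a) (X k l b) := by
  have hω := D.ω_ne
  have base : Commute (X i j 1) (X k l 1) := by
    obtain ⟨σ, h0, h1, ⟨h2, h3⟩ | ⟨h2, h3⟩⟩ := exists_even hn (inj_four hij hik hil hjk hjl hkl)
    all_goals simp only [Matrix.cons_val] at h0 h1 h2 h3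
    · have h4 := D.relD.1.map (MulAut.conj (M σ))
      rwa [D.X_equiv σ (idx_ne hn (by decide)), D.X_equiv σ (idx_ne hn (by decide)), h0, h1, h2,
        h3] at h4
    · have h4 := D.relD.2.map (MulAut.conj (M σ))
      rwa [D.X_equiv σ (idx_ne hn (by decide)), D.X_equiv σ (idx_ne hn (by decide)), h0, h1, h2,
        h3] at h4
  have hr : ∀ b, Commute (X i j 1) (X k l b) := by
    refine D.ind (fun b => Commute (X i j 1) (X k l b)) ?_ base (fun a b ha hb => ?_) (fun a ha => ?_)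
    · rw [D.X_zero hkl]; exact Commute.one_right _
    · rw [D.X_add hkl]; exact ha.mul_right hb
    · have h1 : Wt hn M ψ (T i l * (T i k)⁻¹) i j 1 := by
        convert (D.wtv hil hij (k := ω) (by simp [hVec, hij.symm, hjl])).mul
          ((D.wtv hik hij (k := ω) (by simp [hVec, hij.symm, hjk])).inv hω) using 1
        rw [mul_inv_cancel₀ hω]
      have h2 : Wt hn M ψ (T i l * (T i k)⁻¹) k l (ω ^ 2) := by
        convert (D.wtv hil hkl (k := ω) (by simp [hVec, hik.symm, hkl, hil.symm])).mul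
          ((D.wtv hik hkl (k := ω⁻¹) (by simp [hVec, hik.symm, hkl.symm, hil.symm])).inv
            (inv_ne_zero hω)) using 1
        rw [inv_inv, sq]
      simpa using scale h1 h2 ha
  refine D.ind (fun a => Commute (X i j a) (X k l b)) ?_ (hr b) (fun a c ha hc => ?_)
    (fun a ha => ?_) a
  · rw [D.X_zero hij]; exact Commute.one_left _
  · rw [D.X_add hij]; exact ha.mul_left hc
  · have h1 : Wt hn M ψ (T i l * T i k) i j (ω ^ 2) := by
      convert (D.wtv hil hij (k := ω) (by simp [hVec, hij.symm, hjl])).mul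
        (D.wtv hik hij (k := ω) (by simp [hVec, hij.symm, hjk])) using 1
      rw [sq]
    have h2 : Wt hn M ψ (T i l * T i k) k l 1 := by
      convert (D.wtv hil hkl (k := ω) (by simp [hVec, hik.symm, hkl, hil.symm])).mul
        (D.wtv hik hkl (k := ω⁻¹) (by simp [hVec, hik.symm, hkl.symm, hil.symm])) using 1
      rw [mul_inv_cancel₀ hω]
    simpa using scale h1 h2 ha

theorem rels : Rels (root hn M ψ) := by
  refine ⟨fun i j => ?_, D.X_add, D.form, fun {i j k l} hij hkl hjk hil a b => ?_⟩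
  · obtain ⟨k, hki, hkj, -⟩ := exists_fourth hn i j i
    exact ⟨k, hki, hkj⟩
  by_cases hik : i = k
  · subst hik
    by_cases hjl : j = l
    · subst hjl
      show X i j a * X i j b = X i j b * X i j a
      rw [← D.X_add hij, ← D.X_add hij, add_comm]
    · exact D.row hij hkl hjl a b
  by_cases hjl : j = l
  · subst hjl
    exact D.col hij hkl hik a b
  exact D.apart hij hkl hik hil hjk hjl a b

/-- The root elements generate. -/
theorem closure_root :
    Subgroup.closure {g : G | ∃ i j a, i ≠ j ∧ g = X i j a} = ⊤ := by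
  set S := Subgroup.closure {g : G | ∃ i j a, i ≠ j ∧ g = X i j a} with hS
  have h01 : q 0 ≠ q 1 := idx_ne hn (by decide)
  have hX : ∀ i j, i ≠ j → ∀ a, X i j a ∈ S := fun i j hij a =>
    Subgroup.subset_closure ⟨i, j, a, hij, rfl⟩
  have huS : u ∈ S := by rw [← D.map_one, ← D.X01]; exact hX _ _ h01 _
  have hMS : ∀ σ, MulAut.conj (M σ) u ∈ S := fun σ => by
    rw [← D.map_one, ← D.X01, D.X_equiv σ h01]
    exact hX _ _ ((σ : Perm (Fin n)).injective.ne h01) _
  -- normality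
  have hnormal : S.Normal := by
    have hM : ∀ σ, S ≤ S.comap (MulAut.conj (M σ)).toMonoidHom := fun σ => by
      rw [hS, Subgroup.closure_le]
      rintro _ ⟨i, j, a, hij, rfl⟩
      show MulAut.conj (M σ) _ ∈ S
      rw [D.X_equiv σ hij]
      exact hX _ _ ((σ : Perm (Fin n)).injective.ne hij) _
    have hh : ∀ t : G, (∀ i j, i ≠ j → ∃ k : F, Wt hn M ψ t i j k) →
        S ≤ S.comap (MulAut.conj t).toMonoidHom := fun t ht => by
      rw [hS, Subgroup.closure_le]
      rintro _ ⟨i, j, a, hij, rfl⟩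
      obtain ⟨k, hk⟩ := ht i j hij
      show MulAut.conj t _ ∈ S
      rw [hk]
      exact hX _ _ hij _
    refine ⟨fun g hg x => ?_⟩
    have hx : x ∈ Subgroup.closure (Set.range M ∪ {u, h}) := D.gen ▸ Subgroup.mem_top x
    induction hx using Subgroup.closure_induction_left generalizing g with
    | one => simpa using hg
    | mul_left a ha y _ ih =>
      rw [show a * y * g * (a * y)⁻¹ = a * (y * g * y⁻¹) * a⁻¹ by group]
      rcases ha with ⟨σ, rfl⟩ | ha | ha
      · exact hM σ (ih g hg)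
      · rw [ha]; exact mul_mem (mul_mem huS (ih g hg)) (inv_mem huS)
      · rw [Set.mem_singleton_iff.1 ha]
        exact hh h (fun i j hij => ⟨_, D.H01 ▸ D.weight h01 hij⟩) (ih g hg)
    | inv_mul_cancel a ha y _ ih =>
      rw [show a⁻¹ * y * g * (a⁻¹ * y)⁻¹ = a⁻¹ * (y * g * y⁻¹) * a⁻¹⁻¹ by group]
      rcases ha with ⟨σ, rfl⟩ | ha | ha
      · rw [← map_inv M]
        exact hM σ⁻¹ (ih g hg)
      · rw [ha]; exact mul_mem (mul_mem (inv_mem huS) (ih g hg)) (inv_mem (inv_mem huS))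
      · rw [Set.mem_singleton_iff.1 ha]
        refine hh h⁻¹ (fun i j hij => ⟨(hVec (q 0) (q 1) ω i / hVec (q 0) (q 1) ω j)⁻¹, ?_⟩) (ih g hg)
        exact (D.H01 ▸ D.weight h01 hij).inv
          (div_ne_zero (hVec_ne D.ω_ne _) (hVec_ne D.ω_ne _))
  -- the alternating group
  have hc : M (cyc hn) ∈ S := by
    rw [D.crel]
    exact mul_mem (mul_mem (mul_mem (inv_mem huS) (hMS _)) (inv_mem huS))
      (hnormal.conj_mem _ (mul_mem (mul_mem (inv_mem huS) (hMS _)) (inv_mem huS)) _)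
  have hA : ∀ σ, M σ ∈ S := by
    have hle : Subgroup.closure {g : Perm (Fin n) | g.IsThreeCycle} ≤
        (S.comap M).map (alternatingGroup (Fin n)).subtype := by
      rw [Subgroup.closure_le]
      intro g hg
      have hdvd : g ^ 3 = 1 := by rw [← hg.orderOf, pow_orderOf_eq_one]
      obtain ⟨a, ha⟩ : ∃ a, g a ≠ a := by
        by_contra h'
        push Not at h'
        have : g = 1 := Equiv.ext h'
        rw [this] at hg
        simpa using hg.orderOf
      have hab : a ≠ g a := ha.symm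
      have hac : a ≠ g (g a) := fun e => ha (by
        have := DFunLike.congr_fun hdvd a
        simp only [pow_succ, pow_zero, one_mul, Perm.mul_apply, Perm.one_apply] at this
        rw [← e] at this
        exact this)
      obtain ⟨σ, hb, hac'⟩ := exists_even_rev hn hab hac (fun e => ha (g.injective e.symm))
      have hcyc : ∀ x : Fin n, (σ * cyc hn * σ⁻¹ : alternatingGroup (Fin n)).1 x =
          (σ : Perm (Fin n)) ((cyc hn : Perm (Fin n)) ((σ : Perm (Fin n))⁻¹ x)) := fun x => rfl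
      have hfix : ∀ x, x ≠ a → x ≠ g a → x ≠ g (g a) → g x = x := by
        intro x h1 h2 h3
        by_contra hx
        obtain ⟨m, hm⟩ := hg.isCycle.exists_pow_eq ha hx
        rw [← Nat.mod_add_div m 3, pow_add, pow_mul, hdvd, one_pow, mul_one] at hm
        have := Nat.mod_lt m (show 3 > 0 by norm_num)
        interval_cases (m % 3)
        · exact h1 hm.symm
        · exact h2 (by simpa using hm.symm)
        · exact h3 (by simpa [pow_succ] using hm.symm)
      have hg3 : g (g (g a)) = a := by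
        have := DFunLike.congr_fun hdvd a
        simpa [pow_succ] using this
      have hcfix : ∀ y : Fin n, y ≠ q 0 → y ≠ q 1 → y ≠ q 2 → (cyc hn : Perm (Fin n)) y = y :=
        fun y h1 h2 h3 => by
          show swap _ _ (swap _ _ y) = y
          rw [swap_apply_of_ne_of_ne h2 h3, swap_apply_of_ne_of_ne h1 h2]
      obtain ⟨c0, c1, c2⟩ := cyc_apply hn
      have hmem : (σ * cyc hn * σ⁻¹ : alternatingGroup (Fin n)) ∈ S.comap M := by
        rw [Subgroup.mem_comap, _root_.map_mul, _root_.map_mul, map_inv]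
        exact hnormal.conj_mem _ hc _
      rcases hac' with ⟨h0, h2⟩ | ⟨h0, h2⟩
      · refine ⟨σ * cyc hn * σ⁻¹, hmem, Equiv.ext fun x => ?_⟩
        show (σ * cyc hn * σ⁻¹ : alternatingGroup (Fin n)).1 x = g x
        rw [hcyc]
        obtain ⟨y, rfl⟩ := (σ : Perm (Fin n)).surjective x
        rw [Perm.inv_def, Equiv.symm_apply_apply]
        by_cases y0 : y = q 0
        · rw [y0, c0, hb, h0]
        by_cases y1 : y = q 1
        · rw [y1, c1, h2, hb]
        by_cases y2 : y = q 2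
        · rw [y2, c2, h0, h2, hg3]
        rw [hcfix y y0 y1 y2, hfix]
        · exact fun e => y0 ((σ : Perm (Fin n)).injective (e.trans h0.symm))
        · exact fun e => y1 ((σ : Perm (Fin n)).injective (e.trans hb.symm))
        · exact fun e => y2 ((σ : Perm (Fin n)).injective (e.trans h2.symm))
      · refine ⟨(σ * cyc hn * σ⁻¹)⁻¹, inv_mem hmem, ?_⟩
        show (↑(σ * cyc hn * σ⁻¹)⁻¹ : Perm (Fin n)) = g
        rw [Subgroup.coe_inv, inv_eq_iff_eq_inv]
        refine Equiv.ext fun x => ?_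
        rw [hcyc]
        obtain ⟨y, rfl⟩ := (σ : Perm (Fin n)).surjective x
        rw [Perm.inv_def, Equiv.symm_apply_apply, Perm.eq_inv_iff_eq]
        by_cases y0 : y = q 0
        · rw [y0, c0, hb, h0]
        by_cases y1 : y = q 1
        · rw [y1, c1, h2, hb]
        by_cases y2 : y = q 2
        · rw [y2, c2, h0, h2, hg3]
        rw [hcfix y y0 y1 y2, hfix]
        · exact fun e => y2 ((σ : Perm (Fin n)).injective (e.trans h2.symm))
        · exact fun e => y1 ((σ : Perm (Fin n)).injective (e.trans hb.symm))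
        · exact fun e => y0 ((σ : Perm (Fin n)).injective (e.trans h0.symm))
    rw [Equiv.Perm.closure_three_cycles_eq_alternating] at hle
    intro σ
    obtain ⟨τ, hτ, e⟩ := hle σ.2
    rwa [Subtype.ext (show (τ : Perm (Fin n)) = σ from e)] at hτ
  have hhS : h ∈ S := by
    let π := QuotientGroup.mk' S
    have hπM : ∀ σ, π (M σ) = 1 := fun σ => (QuotientGroup.eq_one_iff _).2 (hA σ)
    have h2 := congrArg π D.inv
    simp only [MulAut.conj_apply, _root_.map_mul, map_inv, hπM, one_mul, inv_one, mul_one] at h2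
    have h3 := congrArg π D.prod
    simp only [MulAut.conj_apply, _root_.map_mul, map_inv, hπM, one_mul, inv_one, mul_one,
      _root_.map_one] at h3
    rw [eq_inv_iff_mul_eq_one] at h2
    rw [h2, one_mul] at h3
    exact (QuotientGroup.eq_one_iff _).1 h3
  rw [eq_top_iff, ← D.gen, Subgroup.closure_le]
  rintro x (⟨σ, rfl⟩ | rfl | rfl)
  exacts [hA σ, huS, hhS]

/-- Everything needed for the injectivity. -/
theorem full : Full (root hn M ψ) ω := by
  refine { D.rels with gen := D.closure_root, ω_ne := D.ω_ne, generate := D.generate, hh := ?_ }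
  have R := D.rels
  have h01 : q 0 ≠ q 1 := idx_ne hn (by decide)
  set d := (hEl (root hn M ψ) (q 0) (q 1) ω)⁻¹ * h with hd
  have hz : ∀ x, Commute d x := by
    refine R.central D.closure_root fun i j a hij => ?_
    rw [hd, _root_.map_mul, MulAut.mul_apply, map_inv, MulAut.inv_def, MulEquiv.symm_apply_eq,
      R.h_conj h01 hij D.ω_ne]
    exact (D.H01 ▸ D.weight h01 hij) a
  have hEq : ∀ i j, i ≠ j → T i j = hEl (root hn M ψ) i j ω * d := by
    intro i j hij
    obtain ⟨σ, hi, hj⟩ := exists_even_two hn hij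
    rw [D.H_eq σ hi hj,
      show h = hEl (root hn M ψ) (q 0) (q 1) ω * d by rw [hd, mul_inv_cancel_left],
      _root_.map_mul, MulAut.conj_apply (M σ) d, ← (hz (M σ)).eq, mul_inv_cancel_right]
    simp only [hEl, wEl, _root_.map_mul, D.X_equiv σ h01, D.X_equiv σ h01.symm, hi, hj]
  intro i j k hij hjk hik
  have h2 := D.H_commute hij hik hjk
  rw [hEq i j hij, hEq j k hjk] at h2
  have h3 := (h2.mul_left (hz _).inv_left)
  rw [mul_inv_cancel_right] at h3
  have h4 := h3.mul_right (hz (hEl (root hn M ψ) i j ω)).symm.inv_right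
  rwa [mul_inv_cancel_right] at h4

end Data

end CfsgLib.SLPresent
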