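import Cfsg.Agent.Lib.SLPresent.Relations
import Cfsg.Agent.Lib.SymPresent.Perms

/-!
The stabiliser of two indices in the alternating group needs only two generators, exchanged by an
involution of the presentation.
-/

set_option autoImplicit false

namespace CfsgLib.SLPresent

open Equiv SymPresent

variable {n : ℕ}

theorem val_idx (hn : 4 ≤ n) (k : Fin 4) : (idx hn k).val = k.val := rfl

theorem two_le_of_ne (hn : 4 ≤ n) {x : Fin n} (h0 : x ≠ idx hn 0) (h1 : x ≠ idx hn 1) : 2 ≤ x.val := by
  by_contra h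
  rcases Nat.lt_succ_iff.1 (Nat.not_le.1 h) |>.lt_or_eq with h' | h'
  · exact h0 (Fin.ext (by rw [val_idx]; simp; omega))
  · exact h1 (Fin.ext (by rw [val_idx]; simpa using h'))

/-- Enough three-cycles give the whole stabiliser. -/
theorem stab_le (hn : 4 ≤ n) (K : Subgroup (Perm (Fin n)))
    (h : ∀ i : Fin n, 2 ≤ i.val → i ≠ idx hn 2 → i ≠ idx hn 3 → tri (idx hn 2) (idx hn 3) i ∈ K)
    {σ : Perm (Fin n)} (hσ : Perm.sign σ = 1) (h0 : σ (idx hn 0) = idx hn 0)
    (h1 : σ (idx hn 1) = idx hn 1) : σ ∈ K := by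
  classical
  let p : Fin n → Prop := fun x => 2 ≤ x.val
  have hp : ∀ x, ¬ p x → x = idx hn 0 ∨ x = idx hn 1 := fun x hx => by
    by_contra hc
    simp only [not_or] at hc
    exact hx (two_le_of_ne hn hc.1 hc.2)
  have hinv : ∀ x, p (σ x) ↔ p x := by
    have key : ∀ x, ¬ p x → σ x = x := fun x hx => by rcases hp x hx with rfl | rfl <;> assumption
    intro x
    refine ⟨fun hx => ?_, fun hx => ?_⟩
    · by_contra hc
      rw [key x hc] at hx
      exact hc hx
    · by_contra hc
      have e : σ x = x := σ.injective (key _ hc)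
      exact hc (by rw [e]; exact hx)
  let σ' : Perm {x // p x} := σ.subtypePerm hinv
  have hof : Perm.ofSubtype σ' = σ := Perm.ofSubtype_subtypePerm hinv fun x hx => by
    by_contra hc
    rcases hp x hc with rfl | rfl
    · exact hx h0
    · exact hx h1
  have hs : Perm.sign σ' = 1 := by rw [← Perm.sign_ofSubtype, hof, hσ]
  let a : {x // p x} := ⟨idx hn 2, by show 2 ≤ (idx hn 2).val; rw [val_idx]; decide⟩
  let b : {x // p x} := ⟨idx hn 3, by show 2 ≤ (idx hn 3).val; rw [val_idx]; decide⟩
  have hab : a ≠ b := fun e => idx_ne hn (show (2 : Fin 4) ≠ 3 by decide) (congrArg Subtype.val e)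
  have hle : alternatingGroup {x // p x} ≤ K.comap Perm.ofSubtype := by
    rw [← closure_tri a b hab, Subgroup.closure_le]
    rintro g ⟨i, hia, hib, rfl⟩
    show Perm.ofSubtype (tri a b i) ∈ K
    rw [tri, _root_.map_mul, Perm.ofSubtype_swap_eq, Perm.ofSubtype_swap_eq]
    exact h i.1 i.2 (fun e => hia (Subtype.ext e)) (fun e => hib (Subtype.ext e))
  have := hle (Perm.mem_alternatingGroup.2 hs)
  rwa [Subgroup.mem_comap, hof] at this

/-- A generator of the stabiliser exists. -/
theorem exists_stabGen (hn : 4 ≤ n) : ∃ s, StabGen hn s := by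
  rcases Nat.lt_or_ge n 6 with h | h6
  · interval_cases n
    · refine ⟨1, rfl, rfl, fun K _ _ σ h0 h1 => ?_⟩
      have hone : ∀ τ : Perm (Fin 4), τ 0 = 0 → τ 1 = 1 → Perm.sign τ = 1 → τ = 1 := by decide
      rw [show σ = 1 from Subtype.ext (hone _ h0 h1 (Perm.mem_alternatingGroup.1 σ.2))]
      exact one_mem K
    · obtain ⟨s, hs0, hs1, hsv⟩ : ∃ s : alternatingGroup (Fin 5),
          (s : Perm (Fin 5)) (idx hn 0) = idx hn 0 ∧ (s : Perm (Fin 5)) (idx hn 1) = idx hn 1 ∧
          (s : Perm (Fin 5)) = swap 2 3 * swap 3 4 :=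
        ⟨⟨swap 2 3 * swap 3 4, Perm.mem_alternatingGroup.2 (by decide)⟩,
          by show (swap (2 : Fin 5) 3 * swap 3 4 : Perm (Fin 5)) 0 = 0; decide,
          by show (swap (2 : Fin 5) 3 * swap 3 4 : Perm (Fin 5)) 1 = 1; decide, rfl⟩
      refine ⟨s, hs0, hs1, fun K hs _ σ h0 h1 => ?_⟩
      set_option synthInstance.maxSize 1024 in
      have hall : ∀ τ : Perm (Fin 5), τ 0 = 0 → τ 1 = 1 → Perm.sign τ = 1 →
          τ = 1 ∨ τ = swap 2 3 * swap 3 4 ∨ τ = swap 2 3 * swap 3 4 * (swap 2 3 * swap 3 4) := by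
        decide +kernel
      rcases hall _ h0 h1 (Perm.mem_alternatingGroup.1 σ.2) with e | e | e
      · rw [show σ = 1 from Subtype.ext e]; exact one_mem K
      · rw [show σ = s from Subtype.ext (e.trans hsv.symm)]; exact hs
      · rw [show σ = s * s from Subtype.ext (by rw [e, Subgroup.coe_mul, hsv])]; exact mul_mem hs hs
  set a := idx hn 2 with ha
  set b := idx hn 3 with hb
  set P := swap a b with hP
  have hab : a ≠ b := idx_ne hn (by decide)
  have hav : a.val = 2 := val_idx hn 2
  have hbv : b.val = 3 := val_idx hn 3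
  have hPP : P * P = 1 := swap_mul_self a b
  -- the common part of both parities
  have main : ∀ f : Perm (Fin n), Perm.sign f = 1 → f (idx hn 0) = idx hn 0 →
      f (idx hn 1) = idx hn 1 →
      (∀ K : Subgroup (Perm (Fin n)), f ∈ K → (∀ k : ℕ, f ^ k * P * (f ^ k)⁻¹ * P ∈ K) →
        ∀ i : Fin n, 2 ≤ i.val → i ≠ a → i ≠ b → swap a i * P ∈ K) →
      ∃ s, StabGen hn s := by
    intro f hf f0 f1 hcov
    refine ⟨⟨f, Perm.mem_alternatingGroup.2 hf⟩, f0, f1, fun K hs hcj σ h0 h1 => ?_⟩
    set K' := K.map (alternatingGroup (Fin n)).subtype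
    have hfK : f ∈ K' := Subgroup.mem_map_of_mem _ hs
    have hQ1 : f * P * f⁻¹ * P ∈ K' := by
      have e2 := Subgroup.mem_map_of_mem (alternatingGroup (Fin n)).subtype (hcj (by omega))
      simp only [_root_.map_mul, map_inv, Subgroup.coe_subtype] at e2
      have e3 : f * ((inv2 hn : Perm (Fin n)) * f * (inv2 hn : Perm (Fin n))⁻¹)⁻¹ =
          f * P * f⁻¹ * P := by
        show f * ((swap (idx hn 0) (idx hn 1) * P) * f * (swap (idx hn 0) (idx hn 1) * P)⁻¹)⁻¹ = _
        set A := swap (idx hn 0) (idx hn 1) with hA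
        have hcA : A * f = f * A := by
          rw [hA, Equiv.mul_swap_eq_swap_mul, f0, f1]
        have hAP : A * P = P * A := by
          rw [hA, hP, Equiv.mul_swap_eq_swap_mul (swap a b),
            swap_apply_of_ne_of_ne (idx_ne hn (by decide)) (idx_ne hn (by decide)),
            swap_apply_of_ne_of_ne (idx_ne hn (by decide)) (idx_ne hn (by decide))]
        have hA2 : A⁻¹ = A := swap_inv _ _
        have hP2 : P⁻¹ = P := swap_inv _ _
        simp only [mul_inv_rev, hA2, hP2, inv_inv]
        calc f * (A * P * (f⁻¹ * (P * A))) = f * (P * A) * f⁻¹ * (P * A) := by rw [hAP]; group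
          _ = f * P * (f⁻¹ * A) * (P * A) := by
            rw [show f⁻¹ * A = A * f⁻¹ by
              rw [inv_mul_eq_iff_eq_mul, ← mul_assoc, ← hcA, mul_inv_cancel_right]]
            group
          _ = f * P * f⁻¹ * (A * (A * P)) := by rw [hAP]; group
          _ = f * P * f⁻¹ * P := by rw [← mul_assoc A A, hA, swap_mul_self, one_mul]
      rw [← e3]
      exact mul_mem hfK (inv_mem e2)
    have hQ : ∀ k : ℕ, f ^ k * P * (f ^ k)⁻¹ * P ∈ K' := by
      intro k
      induction k with
      | zero => simp [hPP]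
      | succ k ih =>
        have h2 := mul_mem (mul_mem (mul_mem hfK ih) (inv_mem hfK)) hQ1
        have e : f * (f ^ k * P * (f ^ k)⁻¹ * P) * f⁻¹ * (f * P * f⁻¹ * P) =
            f ^ (k + 1) * P * (f ^ (k + 1))⁻¹ * P :=
          calc _ = f * f ^ k * P * (f ^ k)⁻¹ * (P * P) * f⁻¹ * P := by group
            _ = _ := by rw [hPP, mul_one, pow_succ' f k]; group
        rwa [e] at h2
    have hK := stab_le hn K' (fun i hi hia hib => by
      have h2 := hcov K' hfK hQ i hi hia hib
      rwa [show tri a b i = swap a i * P by rw [tri, swap_comm i a]])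
      (Perm.mem_alternatingGroup.1 σ.2) h0 h1
    obtain ⟨τ, hτ, e⟩ := hK
    rwa [Subtype.ext (show (τ : Perm (Fin n)) = σ from e)] at hτ
  have hfix : ∀ {T : Finset (Fin n)} {f : Perm (Fin n)}, (∀ x, x ∉ T → f x = x) →
      (∀ x ∈ T, 2 ≤ x.val) → f (idx hn 0) = idx hn 0 ∧ f (idx hn 1) = idx hn 1 := fun hf hT =>
    ⟨hf _ fun hm => absurd (hT _ hm) (by rw [val_idx]; decide),
      hf _ fun hm => absurd (hT _ hm) (by rw [val_idx]; decide)⟩
  have hcard : ∀ m, m ≤ n → (Finset.univ.filter fun x : Fin n => m ≤ x.val).card = n - m := by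
    intro m hm
    have h2 : (Finset.univ.filter fun x : Fin n => m ≤ x.val) =
        (Finset.univ : Finset (Fin (n - m))).map
          ⟨(fun x => ⟨x.val + m, by have := x.isLt; omega⟩ : Fin (n - m) → Fin n),
            fun x y e => Fin.ext (Nat.add_right_cancel (congrArg Fin.val e))⟩ := by
      ext x
      simp only [Finset.mem_filter, Finset.mem_univ, true_and, Finset.mem_map,
        Function.Embedding.coeFn_mk]
      refine ⟨fun hx => ⟨⟨x.val - m, by have := x.isLt; omega⟩, Fin.ext (show x.val - m + m = x.val by omega)⟩, ?_⟩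
      rintro ⟨y, rfl⟩
      exact Nat.le_add_left m y.val
    rw [h2, Finset.card_map, Finset.card_univ, Fintype.card_fin]
  rcases Nat.even_or_odd n with he | ho
  · -- `n` even: fix one more index
    set T := Finset.univ.filter fun x : Fin n => 3 ≤ x.val with hT
    have hTne : T.Nonempty := ⟨b, by simp [T, hbv]⟩
    obtain ⟨f, hfx, hfT, htr, hsg, -⟩ := exists_cyc T hTne
    have h01 := hfix hfx (fun x hx => by simp [T] at hx; omega)
    have hsign : Perm.sign f = 1 := by
      rw [hsg, hT, hcard 3 (by omega)]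
      exact (Even.neg_one_pow (by obtain ⟨r, hr⟩ := he; exact ⟨r - 2, by omega⟩))
    refine main f hsign h01.1 h01.2 fun K _ hQ i hi hia _ => ?_
    have hiT : i ∈ T := by
      have : i.val ≠ a.val := Fin.val_ne_of_ne hia
      simp [T]; omega
    obtain ⟨r, hr⟩ := htr b (by simp [T, hbv]) i hiT
    have hfa : f a = a := hfx a (by simp [T, hav])
    have hfra : (f ^ r) a = a := Perm.pow_apply_eq_self_of_apply_eq_self hfa r
    have := hQ r
    rwa [show f ^ r * P = swap a i * f ^ r by rw [hP, Equiv.mul_swap_eq_swap_mul, hfra, hr],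
      mul_inv_cancel_right] at this
  · -- `n` odd
    set T := Finset.univ.filter fun x : Fin n => 2 ≤ x.val with hT
    have haT : a ∈ T := by simp [T, hav]
    have hbT : b ∈ T := by simp [T, hbv]
    obtain ⟨f₀, hfx, hfT, htr, hsg, -⟩ := exists_cyc T ⟨a, haT⟩
    have hsign : Perm.sign f₀ = 1 := by
      rw [hsg, hT, hcard 2 (by omega)]
      exact (Even.neg_one_pow (by obtain ⟨r, hr⟩ := ho; exact ⟨r - 1, by omega⟩))
    have hfa : f₀ a ≠ a := fun e => by
      obtain ⟨r, hr⟩ := htr a haT b hbT
      exact hab ((Perm.pow_apply_eq_self_of_apply_eq_self e r).symm.trans hr)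
    set g := swap (f₀ a) b with hg
    have hgT : ∀ x, x ∉ T → g x = x := fun x hx =>
      swap_apply_of_ne_of_ne (fun e => hx (e ▸ hfT a haT)) (fun e => hx (e ▸ hbT))
    set f := g * f₀ * g⁻¹ with hf
    have hga : g a = a := swap_apply_of_ne_of_ne hfa.symm hab
    have hfxa : f a = b := by
      rw [hf, Perm.mul_apply, Perm.mul_apply, hg, swap_inv, ← hg, hga, hg, swap_apply_left]
    have hfix' : ∀ x, x ∉ T → f x = x := fun x hx => by
      rw [hf, Perm.mul_apply, Perm.mul_apply, hg, swap_inv, ← hg, hgT x hx, hfx x hx, hgT x hx]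
    have h01 := hfix hfix' (fun x hx => by simpa [T] using hx)
    refine main f (by rw [hf, _root_.map_mul, _root_.map_mul, hsign]; simp) h01.1 h01.2
      fun K _ hQ i hi hia hib => ?_
    have key : ∀ k : ℕ, (f ^ k) a = a ∨ swap a ((f ^ k) a) * P ∈ K := by
      intro k
      induction k with
      | zero => exact Or.inl (by simp)
      | succ k ih =>
        by_cases hnext : (f ^ (k + 1)) a = a
        · exact Or.inl hnext
        refine Or.inr ?_
        rcases ih with ih | ih
        · rw [pow_succ', Perm.mul_apply, ih, hfxa, ← hP, hPP]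
          exact one_mem K
        by_cases hk : (f ^ k) a = a
        · rw [pow_succ', Perm.mul_apply, hk, hfxa, ← hP, hPP]
          exact one_mem K
        set y := (f ^ k) a
        set z := (f ^ (k + 1)) a
        have hPk : f ^ k * P * (f ^ k)⁻¹ = swap y z := by
          rw [hP, Equiv.mul_swap_eq_swap_mul, mul_inv_cancel_right,
            show (f ^ k) b = z by rw [← hfxa, ← Perm.mul_apply, ← pow_succ]]
        have hyz : y ≠ z := fun e => hab (by
          have e2 : (f ^ k) a = (f ^ k) b := by
            rw [← hfxa, ← Perm.mul_apply, ← pow_succ]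
            exact e
          exact (f ^ k).injective e2)
        have h2 := mul_mem (mul_mem ih (inv_mem (hQ k))) ih
        have e : swap a y * P * (f ^ k * P * (f ^ k)⁻¹ * P)⁻¹ * (swap a y * P) = swap a z * P := by
          rw [hPk, mul_inv_rev, swap_inv, hP, swap_inv, ← hP,
            show swap a z = swap a y * swap y z * swap a y by
              rw [← swap_inv a y, show swap a z = swap (swap a y y) (swap a y z) by
                rw [swap_apply_right, swap_apply_of_ne_of_ne hnext hyz.symm],
                Equiv.swap_apply_apply, swap_inv]]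
          calc _ = swap a y * (P * P) * swap y z * (swap a y * P) := by group
            _ = _ := by rw [hPP, mul_one]; group
        rwa [e] at h2
    obtain ⟨r, hr⟩ := htr a haT (g⁻¹ i) (by
      by_cases hgi : g⁻¹ i ∈ T
      · exact hgi
      exfalso
      have : g (g⁻¹ i) = g⁻¹ i := hgT _ hgi
      rw [← Perm.mul_apply, mul_inv_cancel, Perm.one_apply] at this
      rw [← this] at hgi
      exact hgi (by simp [T, hi]))
    have hfr : (f ^ r) a = i := by
      rw [hf, ← MulAut.conj_apply, ← map_pow, MulAut.conj_apply, Perm.mul_apply, Perm.mul_apply,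
        show g⁻¹ a = a by rw [Perm.inv_eq_iff_eq, hga], hr, ← Perm.mul_apply, mul_inv_cancel,
        Perm.one_apply]
    rcases key r with e | e
    · exact absurd (hfr.symm.trans e) hia
    · rwa [hfr] at e

end CfsgLib.SLPresent
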