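import Mathlib

/-!
A group with root subgroups satisfying the Steinberg relations of type `A`, in which two adjacent torus
elements of a generator of the multiplicative group commute, maps injectively to the special linear group.
-/

set_option autoImplicit false

namespace CfsgLib.SLPresent

open Equiv Matrix

variable {G : Type*} [Group G] {F : Type*} [Field F] {n : ℕ}

/-- The Steinberg relations. -/
structure Rels (X : Fin n → Fin n → F → G) : Prop where
  third : ∀ i j : Fin n, ∃ k, k ≠ i ∧ k ≠ j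
  add : ∀ {i j}, i ≠ j → ∀ a b, X i j (a + b) = X i j a * X i j b
  form : ∀ {i j k}, i ≠ j → j ≠ k → i ≠ k → ∀ a b,
    X i j a * X j k b = X i k (a * b) * X j k b * X i j a
  comm : ∀ {i j k l}, i ≠ j → k ≠ l → j ≠ k → i ≠ l → ∀ a b, Commute (X i j a) (X k l b)

/-- The Weyl elements. -/
def wEl (X : Fin n → Fin n → F → G) (i j : Fin n) (a : F) : G := X i j a * X j i (-a⁻¹) * X i j a

/-- The torus elements. -/
def hEl (X : Fin n → Fin n → F → G) (i j : Fin n) (a : F) : G := wEl X i j a * wEl X i j (-1)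

/-- The multipliers of a Weyl element. -/
def wVec (i j : Fin n) (a : F) (k : Fin n) : F := if k = i then -a⁻¹ else if k = j then a else 1

/-- The multipliers of a torus element. -/
def hVec (i j : Fin n) (a : F) (k : Fin n) : F := if k = i then a else if k = j then a⁻¹ else 1

theorem wVec_ne {i j : Fin n} {a : F} (ha : a ≠ 0) (k : Fin n) : wVec i j a k ≠ 0 := by
  unfold wVec; split_ifs <;> simp [ha]

theorem hVec_ne {i j : Fin n} {a : F} (ha : a ≠ 0) (k : Fin n) : hVec i j a k ≠ 0 := by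
  unfold hVec; split_ifs <;> simp [ha]

namespace Rels

variable {X : Fin n → Fin n → F → G} (R : Rels X)
include R

theorem zero {i j : Fin n} (hij : i ≠ j) : X i j 0 = 1 := by
  have h := R.add hij 0 0
  rw [add_zero] at h
  exact left_eq_mul.1 h

theorem neg {i j : Fin n} (hij : i ≠ j) (a : F) : X i j (-a) = (X i j a)⁻¹ := by
  rw [eq_inv_iff_mul_eq_one, ← R.add hij, neg_add_cancel, R.zero hij]

theorem fix {i j k l : Fin n} (hij : i ≠ j) (hkl : k ≠ l) (hjk : j ≠ k) (hil : i ≠ l) (a b : F) :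
    MulAut.conj (X i j a) (X k l b) = X k l b := by
  rw [MulAut.conj_apply, (R.comm hij hkl hjk hil a b).eq, mul_inv_cancel_right]

theorem head {i j k : Fin n} (hij : i ≠ j) (hjk : j ≠ k) (hik : i ≠ k) (a b : F) :
    MulAut.conj (X i j a) (X j k b) = X i k (a * b) * X j k b := by
  rw [MulAut.conj_apply, R.form hij hjk hik, mul_inv_cancel_right]

theorem tail {i j k : Fin n} (hij : i ≠ j) (hki : k ≠ i) (hkj : k ≠ j) (a b : F) :
    MulAut.conj (X i j a) (X k i b) = X k j (-(b * a)) * X k i b := by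
  rw [MulAut.conj_apply, mul_inv_eq_iff_eq_mul, mul_assoc, R.form hki hij hkj, ← mul_assoc, ← mul_assoc,
    ← R.add hkj, neg_add_cancel, R.zero hkj, one_mul]

theorem decomp {i k j : Fin n} (hik : i ≠ k) (hkj : k ≠ j) (hij : i ≠ j) (a b : F) :
    X i j (a * b) = X i k a * X k j b * X i k (-a) * X k j (-b) := by
  rw [R.form hik hkj hij, R.neg hik, R.neg hkj]
  group

theorem w_neg {i j : Fin n} (hij : i ≠ j) (a : F) : wEl X i j (-a) = (wEl X i j a)⁻¹ := by
  simp only [wEl, inv_neg, R.neg hij, R.neg hij.symm, inv_inv]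
  group

theorem w_conj_adj {i j k : Fin n} (hij : i ≠ j) (hki : k ≠ i) (hkj : k ≠ j) {a : F} (ha : a ≠ 0)
    (b : F) :
    MulAut.conj (wEl X i j a) (X i k b) = X j k (-a⁻¹ * b) ∧
    MulAut.conj (wEl X i j a) (X j k b) = X i k (a * b) ∧
    MulAut.conj (wEl X i j a) (X k i b) = X k j (-a * b) ∧
    MulAut.conj (wEl X i j a) (X k j b) = X k i (a⁻¹ * b) := by
  simp only [wEl, map_mul, MulAut.mul_apply]
  refine ⟨?_, ?_, ?_, ?_⟩
  · rw [R.fix hij hki.symm hij.symm hki.symm, R.head hij.symm hki.symm hkj.symm, map_mul,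
      R.head hij hkj.symm hki.symm, R.fix hij hki.symm hij.symm hki.symm, mul_assoc,
      (R.comm hkj.symm hki.symm hki hkj.symm _ _).eq, ← mul_assoc, ← R.add hki.symm,
      show a * (-a⁻¹ * b) + b = 0 by field_simp; ring, R.zero hki.symm, one_mul]
  · rw [R.head hij hkj.symm hki.symm, map_mul, R.head hij.symm hki.symm hkj.symm,
      R.fix hij.symm hkj.symm hij hkj.symm, mul_assoc, (R.comm hki.symm hkj.symm hkj hki.symm _ _).eq,
      ← mul_assoc, ← R.add hkj.symm, show -a⁻¹ * (a * b) + b = 0 by field_simp; ring,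
      R.zero hkj.symm, one_mul, R.fix hij hki.symm hij.symm hki.symm]
  · rw [R.tail hij hki hkj, map_mul, R.tail hij.symm hkj hki, R.fix hij.symm hki hki.symm hij.symm,
      mul_assoc, (R.comm hkj hki hkj.symm hki _ _).eq, ← mul_assoc, ← R.add hki,
      show -(-(b * a) * -a⁻¹) + b = 0 by field_simp; ring, R.zero hki, one_mul,
      R.fix hij hkj hkj.symm hij]
    congr 1; ring
  · rw [R.fix hij hkj hkj.symm hij, R.tail hij.symm hkj hki, map_mul, R.tail hij hki hkj,
      R.fix hij hkj hkj.symm hij, mul_assoc, (R.comm hki hkj hki.symm hkj _ _).eq, ← mul_assoc,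
      ← R.add hkj, show -(-(b * -a⁻¹) * a) + b = 0 by field_simp; ring, R.zero hkj, one_mul]
    congr 1; ring

/-- Conjugation by a Weyl element. -/
theorem w_conj {i j k l : Fin n} (hij : i ≠ j) (hkl : k ≠ l) {a : F} (ha : a ≠ 0) (b : F) :
    MulAut.conj (wEl X i j a) (X k l b) =
      X (swap i j k) (swap i j l) (wVec i j a k / wVec i j a l * b) := by
  obtain ⟨m, hmi, hmj⟩ := R.third i j
  have hpair : MulAut.conj (wEl X i j a) (X i j b) = X j i (-a⁻¹ / a * b) ∧
      MulAut.conj (wEl X i j a) (X j i b) = X i j (a / -a⁻¹ * b) := by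
    obtain ⟨h1, -, -, h4⟩ := R.w_conj_adj hij hmi hmj ha b
    obtain ⟨-, h1', -, h4'⟩ := R.w_conj_adj hij hmi hmj ha (-b)
    obtain ⟨-, -, -, g4⟩ := R.w_conj_adj hij hmi hmj ha (1 : F)
    obtain ⟨-, -, g3', -⟩ := R.w_conj_adj hij hmi hmj ha (-1 : F)
    obtain ⟨-, e2, -, -⟩ := R.w_conj_adj hij hmi hmj ha b
    obtain ⟨e1', -, -, e4'⟩ := R.w_conj_adj hij hmi hmj ha (-b)
    obtain ⟨-, -, f3, -⟩ := R.w_conj_adj hij hmi hmj ha (1 : F)
    obtain ⟨-, -, -, f4'⟩ := R.w_conj_adj hij hmi hmj ha (-1 : F)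
    constructor
    · conv_lhs => rw [show b = b * 1 by ring, R.decomp hmi.symm hmj hij]
      rw [map_mul, map_mul, map_mul, h1, g4, e1', f4',
        show -a⁻¹ * -b = -(-a⁻¹ * b) by ring, show a⁻¹ * -1 = -(a⁻¹ * 1) by ring,
        ← R.decomp hmj.symm hmi hij.symm]
      congr 1; field_simp
    · conv_lhs => rw [show b = b * 1 by ring, R.decomp hmj.symm hmi hij.symm]
      rw [map_mul, map_mul, map_mul, e2, f3, h1', g3',
        show a * -b = -(a * b) by ring, show -a * -1 = -(-a * 1) by ring,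
        ← R.decomp hmi.symm hmj hij]
      congr 1; field_simp
  by_cases h1 : k = i
  · subst h1
    by_cases h2 : l = j
    · subst h2
      rw [hpair.1]
      simp [swap_apply_left, swap_apply_right, wVec, hij.symm]
    · rw [(R.w_conj_adj hij hkl.symm h2 ha b).1]
      simp [swap_apply_left, swap_apply_of_ne_of_ne hkl.symm h2, wVec, hkl.symm, h2]
  by_cases h2 : k = j
  · subst h2
    by_cases h3 : l = i
    · subst h3
      rw [hpair.2]
      simp [swap_apply_left, swap_apply_right, wVec, hij.symm]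
    · rw [(R.w_conj_adj hij h3 hkl.symm ha b).2.1]
      simp [swap_apply_right, swap_apply_of_ne_of_ne h3 hkl.symm, wVec, hkl.symm, h3, hij.symm]
  by_cases h3 : l = i
  · subst h3
    rw [(R.w_conj_adj hij h1 h2 ha b).2.2.1]
    simp [swap_apply_left, swap_apply_of_ne_of_ne h1 h2, wVec, h1, h2]
  by_cases h4 : l = j
  · subst h4
    rw [(R.w_conj_adj hij h1 h2 ha b).2.2.2]
    simp [swap_apply_right, swap_apply_of_ne_of_ne h1 h2, wVec, h1, h2, hij.symm]
  rw [swap_apply_of_ne_of_ne h1 h2, swap_apply_of_ne_of_ne h3 h4]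
  simp only [wEl, map_mul, MulAut.mul_apply]
  rw [R.fix hij hkl (Ne.symm h2) (Ne.symm h3), R.fix hij.symm hkl (Ne.symm h1) (Ne.symm h4),
    R.fix hij hkl (Ne.symm h2) (Ne.symm h3)]
  simp [wVec, h1, h2, h3, h4]

theorem w_conj_w {i j k l : Fin n} (hij : i ≠ j) (hkl : k ≠ l) {a : F} (ha : a ≠ 0) (b : F) :
    MulAut.conj (wEl X i j a) (wEl X k l b) =
      wEl X (swap i j k) (swap i j l) (wVec i j a k / wVec i j a l * b) := by
  show _ = X _ _ _ * X _ _ _ * X _ _ _
  rw [show wEl X k l b = X k l b * X l k (-b⁻¹) * X k l b from rfl, map_mul, map_mul,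
    R.w_conj hij hkl ha, R.w_conj hij hkl.symm ha]
  congr 3
  rw [mul_inv, inv_div]; ring

theorem w_swap {i j : Fin n} (hij : i ≠ j) {a : F} (ha : a ≠ 0) :
    wEl X i j a = wEl X j i (-a⁻¹) := by
  have h := R.w_conj_w hij hij ha a
  rw [MulAut.conj_apply, mul_inv_cancel_right, swap_apply_left, swap_apply_right] at h
  rw [h]
  congr 1
  simp [wVec, hij.symm]
  field_simp

theorem h_conj {i j k l : Fin n} (hij : i ≠ j) (hkl : k ≠ l) {a : F} (ha : a ≠ 0) (b : F) :
    MulAut.conj (hEl X i j a) (X k l b) = X k l (hVec i j a k / hVec i j a l * b) := by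
  rw [hEl, map_mul, MulAut.mul_apply, R.w_conj hij hkl (by norm_num),
    R.w_conj hij ((swap i j).injective.ne hkl) ha, swap_apply_self, swap_apply_self]
  congr 1
  have key : ∀ m, wVec i j a (swap i j m) * wVec i j (-1) m = hVec i j a m := by
    intro m
    by_cases h1 : m = i
    · subst h1; simp [wVec, hVec, swap_apply_left, hij.symm]
    by_cases h2 : m = j
    · subst h2; simp [wVec, hVec, swap_apply_right, hij.symm]
    simp [wVec, hVec, swap_apply_of_ne_of_ne h1 h2, h1, h2]
  rw [← key k, ← key l, ← mul_assoc, div_mul_div_comm]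

theorem h_conj_w {i j k l : Fin n} (hij : i ≠ j) (hkl : k ≠ l) {a : F} (ha : a ≠ 0) (b : F) :
    MulAut.conj (hEl X i j a) (wEl X k l b) = wEl X k l (hVec i j a k / hVec i j a l * b) := by
  show _ = X _ _ _ * X _ _ _ * X _ _ _
  rw [show wEl X k l b = X k l b * X l k (-b⁻¹) * X k l b from rfl, map_mul, map_mul,
    R.h_conj hij hkl ha, R.h_conj hij hkl.symm ha]
  congr 3
  rw [mul_inv, inv_div]; ring

theorem h_one {i j : Fin n} (hij : i ≠ j) : hEl X i j (1 : F) = 1 := by
  rw [hEl, R.w_neg hij, mul_inv_cancel]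

theorem w_eq_h {i j : Fin n} (hij : i ≠ j) (a : F) : wEl X i j a = hEl X i j a * wEl X i j 1 := by
  rw [hEl, R.w_neg hij, inv_mul_cancel_right]

theorem w_w {i j : Fin n} (hij : i ≠ j) : wEl X i j (1 : F) * wEl X i j 1 = (hEl X i j (-1))⁻¹ := by
  rw [hEl, _root_.mul_inv_rev, R.w_neg hij, inv_inv]

theorem h_conj_h {i j k l : Fin n} (hij : i ≠ j) (hkl : k ≠ l) {a : F} (ha : a ≠ 0) (b : F) :
    MulAut.conj (hEl X i j a) (hEl X k l b) =
      hEl X k l (hVec i j a k / hVec i j a l * b) * (hEl X k l (hVec i j a k / hVec i j a l))⁻¹ := by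
  conv_lhs => rw [hEl.eq_def X k l b]
  rw [map_mul, R.h_conj_w hij hkl ha, R.h_conj_w hij hkl ha, mul_neg, mul_one,
    R.w_eq_h hkl (_ * b), R.w_neg hkl (hVec i j a k / hVec i j a l),
    R.w_eq_h hkl (hVec i j a k / hVec i j a l), _root_.mul_inv_rev]
  group

/-- An element fixing all root elements is central, when these generate. -/
theorem central (hS : Subgroup.closure {g : G | ∃ i j a, i ≠ j ∧ g = X i j a} = ⊤) {d : G}
    (hd : ∀ i j a, i ≠ j → MulAut.conj d (X i j a) = X i j a) (x : G) : Commute d x := by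
  have hle : Subgroup.closure {g : G | ∃ i j a, i ≠ j ∧ g = X i j a} ≤ Subgroup.centralizer {d} := by
    refine (Subgroup.closure_le _).2 ?_
    rintro _ ⟨i, j, a, hij, rfl⟩
    rw [SetLike.mem_coe, Subgroup.mem_centralizer_singleton_iff]
    exact (mul_inv_eq_iff_eq_mul.1 (hd i j a hij)).symm
  exact (Subgroup.mem_centralizer_singleton_iff.1 (hle (hS ▸ Subgroup.mem_top x))).symm

end Rels

/-- The hypotheses: Steinberg relations, generation, and commutation of adjacent torus elements at a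
generator of the multiplicative group. -/
structure Full (X : Fin n → Fin n → F → G) (ω : F) : Prop extends Rels X where
  gen : Subgroup.closure {g : G | ∃ i j a, i ≠ j ∧ g = X i j a} = ⊤
  ω_ne : ω ≠ 0
  generate : ∀ t : F, t ≠ 0 → ∃ k : ℕ, t = ω ^ k
  hh : ∀ i j k, i ≠ j → j ≠ k → i ≠ k → Commute (hEl X i j ω) (hEl X j k ω)

namespace Full

variable {X : Fin n → Fin n → F → G} {ω : F} (S : Full X ω)
include S

theorem conj_pow_h {i j : Fin n} (hij : i ≠ j) {a : F} (ha : a ≠ 0) :
    ∀ (m : ℕ) {k l : Fin n}, k ≠ l → ∀ b, MulAut.conj (hEl X i j a ^ m) (X k l b) =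
      X k l ((hVec i j a k / hVec i j a l) ^ m * b) := by
  intro m
  induction m with
  | zero => intro k l _ b; simp
  | succ m ih =>
    intro k l hkl b
    rw [pow_succ', map_mul, MulAut.mul_apply, ih hkl, S.h_conj hij hkl ha]
    congr 1; ring

theorem h_pow {j k : Fin n} (hjk : j ≠ k) : ∀ m : ℕ, hEl X j k (ω ^ m) = hEl X j k ω ^ m := by
  obtain ⟨i, hij, hik⟩ := S.third j k
  have hω := S.ω_ne
  have hstep : ∀ m : ℕ, hEl X j k (ω⁻¹ * ω ^ m) * (hEl X j k ω⁻¹)⁻¹ = hEl X j k (ω ^ m) := by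
    intro m
    have hc : Commute (hEl X i j ω) (hEl X j k (ω ^ m)) := by
      have hz : ∀ x, Commute (hEl X j k (ω ^ m) * (hEl X j k ω ^ m)⁻¹) x := by
        refine S.central S.gen fun a b t hab => ?_
        have h2 : MulAut.conj (hEl X j k ω ^ m)⁻¹ (X a b t) =
            X a b (((hVec j k ω a / hVec j k ω b) ^ m)⁻¹ * t) := by
          rw [map_inv, MulAut.inv_def, MulEquiv.symm_apply_eq, S.conj_pow_h hjk hω m hab, ← mul_assoc,
            mul_inv_cancel₀ (pow_ne_zero _ (div_ne_zero (hVec_ne hω a) (hVec_ne hω b))), one_mul]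
        rw [map_mul, MulAut.mul_apply, h2, S.h_conj hjk hab (pow_ne_zero _ hω)]
        congr 1
        have key : ∀ c : Fin n, hVec j k (ω ^ m) c = hVec j k ω c ^ m := by
          intro c; unfold hVec; split_ifs <;> simp
        rw [key, key, ← mul_assoc, ← div_pow,
          mul_inv_cancel₀ (pow_ne_zero _ (div_ne_zero (hVec_ne hω a) (hVec_ne hω b))), one_mul]
      have h2 := (S.hh i j k hij hjk hik).pow_right m
      have h3 := (hz (hEl X i j ω)).symm.mul_right h2
      rwa [inv_mul_cancel_right] at h3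
    have h1 := S.h_conj_h hij hjk hω (ω ^ m)
    rw [MulAut.conj_apply, hc.eq, mul_inv_cancel_right] at h1
    have e : hVec i j ω j / hVec i j ω k = ω⁻¹ := by simp [hVec, hij.symm, hik.symm, hjk.symm]
    rw [e] at h1
    exact h1.symm
  have h1 := hstep 1
  rw [pow_one, inv_mul_cancel₀ hω, S.h_one hjk, one_mul] at h1
  intro m
  induction m with
  | zero => simp [S.h_one hjk]
  | succ m ih =>
    have h2 := hstep (m + 1)
    rw [show ω⁻¹ * ω ^ (m + 1) = ω ^ m by rw [pow_succ]; field_simp, h1, ih] at h2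
    rw [← h2, pow_succ]

theorem h_mul {i j : Fin n} (hij : i ≠ j) {a b : F} (ha : a ≠ 0) (hb : b ≠ 0) :
    hEl X i j (a * b) = hEl X i j a * hEl X i j b := by
  obtain ⟨k, rfl⟩ := S.generate a ha
  obtain ⟨l, rfl⟩ := S.generate b hb
  rw [← pow_add, S.h_pow hij, S.h_pow hij, S.h_pow hij, pow_add]

theorem h_inv {i j : Fin n} (hij : i ≠ j) {a : F} (ha : a ≠ 0) :
    (hEl X i j a)⁻¹ = hEl X i j a⁻¹ :=
  inv_eq_of_mul_eq_one_right (by rw [← S.h_mul hij ha (inv_ne_zero ha), mul_inv_cancel₀ ha, S.h_one hij])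

theorem h_commute {i j k l : Fin n} (hij : i ≠ j) (hkl : k ≠ l) {a b : F} (ha : a ≠ 0) (hb : b ≠ 0) :
    Commute (hEl X i j a) (hEl X k l b) := by
  have h := S.h_conj_h hij hkl ha b
  have hr := div_ne_zero (hVec_ne (i := i) (j := j) ha k) (hVec_ne (i := i) (j := j) ha l)
  rw [S.h_mul hkl hr hb, (show Commute (hEl X k l _) (hEl X k l b) by
    show _ * _ = _ * _
    rw [← S.h_mul hkl hr hb, ← S.h_mul hkl hb hr, mul_comm]).eq, mul_inv_cancel_right] at h
  exact mul_inv_eq_iff_eq_mul.1 h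

theorem w_conj_h {i j k l : Fin n} (hij : i ≠ j) (hkl : k ≠ l) {a b : F} (ha : a ≠ 0) (hb : b ≠ 0) :
    MulAut.conj (wEl X i j a) (hEl X k l b) = hEl X (swap i j k) (swap i j l) b := by
  have hs := (swap i j).injective.ne hkl
  have hr := div_ne_zero (wVec_ne (i := i) (j := j) ha k) (wVec_ne (i := i) (j := j) ha l)
  conv_lhs => rw [hEl.eq_def X k l b]
  rw [map_mul, S.w_conj_w hij hkl ha, S.w_conj_w hij hkl ha, mul_neg, mul_one,
    S.w_eq_h hs (_ * b), S.w_neg hs (wVec i j a k / wVec i j a l),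
    S.w_eq_h hs (wVec i j a k / wVec i j a l), _root_.mul_inv_rev, S.h_mul hs hr hb,
    (S.h_commute hs hs hr hb).eq]
  group

theorem h_swap {i j : Fin n} (hij : i ≠ j) {a : F} (ha : a ≠ 0) :
    hEl X j i a = hEl X i j a⁻¹ := by
  rw [hEl, S.w_swap hij.symm ha, S.w_swap hij.symm (show (-1 : F) ≠ 0 by norm_num),
    S.w_eq_h hij (-a⁻¹), show -((-1 : F))⁻¹ = 1 by norm_num, mul_assoc, S.w_w hij,
    show -a⁻¹ = a⁻¹ * -1 by ring, S.h_mul hij (inv_ne_zero ha) (by norm_num), mul_inv_cancel_right]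

theorem h_trans {i j k : Fin n} (hij : i ≠ j) (hjk : j ≠ k) (hik : i ≠ k) {a : F} (ha : a ≠ 0) :
    hEl X i k a = hEl X j k a * hEl X i j a := by
  have h := S.w_conj_h hjk hij (one_ne_zero) ha
  rw [swap_apply_left, swap_apply_of_ne_of_ne hij hik] at h
  rw [← h, MulAut.conj_apply, ← mul_inv_eq_iff_eq_mul, mul_assoc, mul_assoc,
    show (wEl X j k 1)⁻¹ * (hEl X i j a)⁻¹ = (hEl X i j a)⁻¹ * (hEl X i j a * wEl X j k (-1) *
      (hEl X i j a)⁻¹) by rw [S.w_neg hjk]; group,
    mul_inv_cancel_left, ← MulAut.conj_apply, S.h_conj_w hij hjk ha]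
  have e : hVec i j a j / hVec i j a k = a⁻¹ := by
    simp [hVec, hij.symm, hik.symm, hjk.symm]
  rw [e, S.w_eq_h hjk (a⁻¹ * -1), ← mul_assoc, show wEl X j k 1 * hEl X j k (a⁻¹ * -1) =
    MulAut.conj (wEl X j k 1) (hEl X j k (a⁻¹ * -1)) * wEl X j k 1 by
      rw [MulAut.conj_apply]; group,
    S.w_conj_h hjk hjk one_ne_zero (by simp [ha]), mul_assoc, S.w_w hjk, swap_apply_left,
    swap_apply_right, S.h_swap hjk (by simp [ha]), S.h_inv hjk (show (-1 : F) ≠ 0 by norm_num),
    ← S.h_mul hjk (by simp [ha]) (by norm_num)]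
  congr 1; field_simp

/-- The torus. -/
def torus (_S : Full X ω) : Subgroup G :=
  Subgroup.closure {g : G | ∃ i j a, i ≠ j ∧ a ≠ 0 ∧ g = hEl X i j a}

theorem h_mem {i j : Fin n} (hij : i ≠ j) {a : F} (ha : a ≠ 0) : hEl X i j a ∈ S.torus :=
  Subgroup.subset_closure ⟨i, j, a, hij, ha, rfl⟩

theorem w_normal {i j : Fin n} (hij : i ≠ j) {a : F} (ha : a ≠ 0) {t : G} (ht : t ∈ S.torus) :
    MulAut.conj (wEl X i j a) t ∈ S.torus := by
  have : S.torus ≤ S.torus.comap (MulAut.conj (wEl X i j a)).toMonoidHom := by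
    refine (Subgroup.closure_le _).2 ?_
    rintro _ ⟨k, l, b, hkl, hb, rfl⟩
    show MulAut.conj _ _ ∈ S.torus
    rw [S.w_conj_h hij hkl ha hb]
    exact S.h_mem ((swap i j).injective.ne hkl) hb
  exact this ht

theorem w_mem {K : Subgroup G} (hT : S.torus ≤ K) {i j : Fin n} (hij : i ≠ j) {a : F} (ha : a ≠ 0)
    (h1 : wEl X i j 1 ∈ K) : wEl X i j a ∈ K := by
  rw [S.w_eq_h hij]
  exact mul_mem (hT (S.h_mem hij ha)) h1

theorem w_inv {i j : Fin n} (hij : i ≠ j) :
    (wEl X i j 1)⁻¹ = hEl X i j (-1) * wEl X i j 1 := by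
  rw [← S.w_neg hij, S.w_eq_h hij]

/-- The monomial subgroup on the indices below `m`. -/
def mono (S : Full X ω) (m : ℕ) : Subgroup G :=
  Subgroup.closure ((S.torus : Set G) ∪
    {g : G | ∃ i j : Fin n, i.val < m ∧ j.val < m ∧ i ≠ j ∧ g = wEl X i j 1})

theorem torus_le_mono (m : ℕ) : S.torus ≤ S.mono m := fun _ ht => Subgroup.subset_closure (Or.inl ht)

theorem w1_mem {m : ℕ} {i j : Fin n} (hi : i.val < m) (hj : j.val < m) (hij : i ≠ j) :
    wEl X i j 1 ∈ S.mono m := Subgroup.subset_closure (Or.inr ⟨i, j, hi, hj, hij, rfl⟩)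

theorem mono_succ {m : ℕ} (hm : m < n) {x : G} (hx : x ∈ S.mono (m + 1)) :
    x ∈ S.mono m ∨ ∃ i : Fin n, i.val < m ∧ ∃ y ∈ S.mono m, x = wEl X i ⟨m, hm⟩ 1 * y := by
  set M : Fin n := ⟨m, hm⟩ with hM
  let P : G → Prop := fun x => x ∈ S.mono m ∨ ∃ i : Fin n, i.val < m ∧ ∃ y ∈ S.mono m, x = wEl X i M 1 * y
  have hT : ∀ t ∈ S.torus, ∀ x, P x → P (t * x) := by
    rintro t ht x (hx | ⟨i, hi, y, hy, rfl⟩)
    · exact Or.inl (mul_mem (S.torus_le_mono m ht) hx)
    · have hiM : i ≠ M := fun h => by rw [h] at hi; exact lt_irrefl _ hi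
      refine Or.inr ⟨i, hi, MulAut.conj (wEl X i M (-1)) t * y,
        mul_mem (S.torus_le_mono m (S.w_normal hiM (by norm_num) ht)) hy, ?_⟩
      rw [MulAut.conj_apply, S.w_neg hiM, inv_inv]
      group
  have hW : ∀ i j : Fin n, i.val < m + 1 → j.val < m + 1 → i ≠ j → ∀ x, P x → P (wEl X i j 1 * x) := by
    have main : ∀ i j : Fin n, i.val < m → j.val < m + 1 → i ≠ j → ∀ x, P x → P (wEl X i j 1 * x) := by
      intro i j hi hj hij x hx
      have hiM : i ≠ M := fun h => by rw [h] at hi; exact lt_irrefl _ hi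
      rcases (Nat.lt_succ_iff.1 hj).lt_or_eq with hj' | hj'
      · rcases hx with hx | ⟨k, hk, y, hy, rfl⟩
        · exact Or.inl (mul_mem (S.w1_mem hi hj' hij) hx)
        · have hkM : k ≠ M := fun h => by rw [h] at hk; exact lt_irrefl _ hk
          have hjM : j ≠ M := fun h => by rw [h] at hj'; exact lt_irrefl _ hj'
          set k' := swap i j k with hk'
          have hk'm : k'.val < m := by
            rw [hk']
            by_cases h1 : k = i
            · subst h1; rw [swap_apply_left]; exact hj'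
            by_cases h2 : k = j
            · subst h2; rw [swap_apply_right]; exact hi
            rw [swap_apply_of_ne_of_ne h1 h2]; exact hk
          have hsM : swap i j M = M := swap_apply_of_ne_of_ne hiM.symm hjM.symm
          have hk'M : k' ≠ M := fun h => by rw [h] at hk'm; exact lt_irrefl _ hk'm
          have hr : wVec i j (1 : F) k / wVec i j (1 : F) M * 1 ≠ 0 := by
            simp [wVec_ne (one_ne_zero (α := F))]
          rw [← mul_assoc, show wEl X i j 1 * wEl X k M 1 =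
            MulAut.conj (wEl X i j 1) (wEl X k M 1) * wEl X i j 1 by rw [MulAut.conj_apply]; group,
            S.w_conj_w hij hkM one_ne_zero, hsM, ← hk', S.w_eq_h hk'M, mul_assoc, mul_assoc]
          exact hT _ (S.h_mem hk'M hr) _ (Or.inr ⟨k', hk'm, _, mul_mem (S.w1_mem hi hj' hij) hy, rfl⟩)
      · obtain rfl : j = M := Fin.ext hj'
        rcases hx with hx | ⟨k, hk, y, hy, rfl⟩
        · exact Or.inr ⟨i, hi, x, hx, rfl⟩
        · have hkM : k ≠ M := fun h => by rw [h] at hk; exact lt_irrefl _ hk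
          by_cases hik : i = k
          · subst hik
            refine Or.inl ?_
            rw [← mul_assoc, S.w_w hij]
            exact mul_mem (inv_mem (S.torus_le_mono m (S.h_mem hij (by norm_num)))) hy
          · refine Or.inr ⟨k, hk, MulAut.conj (wEl X k M (-1)) (wEl X i M 1) * y, mul_mem ?_ hy, ?_⟩
            · rw [S.w_conj_w hkM hij (by norm_num), swap_apply_right,
                swap_apply_of_ne_of_ne hik hij]
              exact S.w_mem (S.torus_le_mono m) hik
                (by simp [wVec_ne (show (-1 : F) ≠ 0 by norm_num)]) (S.w1_mem hi hk hik)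
            · rw [MulAut.conj_apply, S.w_neg hkM, inv_inv]
              group
    intro i j hi hj hij x hx
    rcases (Nat.lt_succ_iff.1 hi).lt_or_eq with hi' | hi'
    · exact main i j hi' hj hij x hx
    · obtain rfl : i = M := Fin.ext hi'
      have hj' : j.val < m := by
        rcases (Nat.lt_succ_iff.1 hj).lt_or_eq with h | h
        · exact h
        · exact absurd (Fin.ext h.symm : M = j) hij
      rw [S.w_swap hij one_ne_zero, S.w_eq_h hij.symm, mul_assoc]
      exact hT _ (S.h_mem hij.symm (by norm_num)) _ (main j M hj' (Nat.lt_succ_self m) hij.symm x hx)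
  refine Subgroup.closure_induction_left (p := fun x _ => P x) (Or.inl (one_mem _)) ?_ ?_ hx
  · rintro s (hs | ⟨i, j, hi, hj, hij, rfl⟩) y - ih
    · exact hT s hs y ih
    · exact hW i j hi hj hij y ih
  · rintro s (hs | ⟨i, j, hi, hj, hij, rfl⟩) y - ih
    · exact hT _ (inv_mem hs) y ih
    · rw [S.w_inv hij, mul_assoc]
      exact hT _ (S.h_mem hij (by norm_num)) _ (hW i j hi hj hij y ih)

/-- A monomial element permutes the root subgroups. -/
theorem mono_conj {x : G} (hx : x ∈ S.mono n) : ∃ σ : Perm (Fin n), ∀ k l, k ≠ l → ∀ b,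
    ∃ b', MulAut.conj x (X k l b) = X (σ k) (σ l) b' := by
  have hW : ∀ i j : Fin n, i ≠ j → ∀ a : F, a ≠ 0 → ∀ k l, k ≠ l → ∀ b,
      ∃ b', MulAut.conj (wEl X i j a) (X k l b) = X (swap i j k) (swap i j l) b' :=
    fun i j hij a ha k l hkl b => ⟨_, S.w_conj hij hkl ha b⟩
  have htor : ∀ t ∈ S.torus, ∀ k l, k ≠ l → ∀ b, ∃ b', MulAut.conj t (X k l b) = X k l b' := by
    intro t ht
    refine Subgroup.closure_induction_left (p := fun t _ => ∀ k l, k ≠ l → ∀ b,
      ∃ b', MulAut.conj t (X k l b) = X k l b') (fun k l _ b => ⟨b, by simp⟩) ?_ ?_ ht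
    · rintro _ ⟨i, j, a, hij, ha, rfl⟩ y - ih k l hkl b
      obtain ⟨b', hb'⟩ := ih k l hkl b
      exact ⟨_, by rw [map_mul, MulAut.mul_apply, hb', S.h_conj hij hkl ha]⟩
    · rintro _ ⟨i, j, a, hij, ha, rfl⟩ y - ih k l hkl b
      obtain ⟨b', hb'⟩ := ih k l hkl b
      exact ⟨_, by rw [S.h_inv hij ha, map_mul, MulAut.mul_apply, hb',
        S.h_conj hij hkl (inv_ne_zero ha)]⟩
  refine Subgroup.closure_induction_left (p := fun x _ => ∃ σ : Perm (Fin n), ∀ k l, k ≠ l → ∀ b,
    ∃ b', MulAut.conj x (X k l b) = X (σ k) (σ l) b') ⟨1, fun k l _ b => ⟨b, by simp⟩⟩ ?_ ?_ hx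
  · rintro s (hs | ⟨i, j, -, -, hij, rfl⟩) y - ⟨σ, ih⟩
    · refine ⟨σ, fun k l hkl b => ?_⟩
      obtain ⟨b', hb'⟩ := ih k l hkl b
      rw [map_mul, MulAut.mul_apply, hb']
      exact htor s hs _ _ (σ.injective.ne hkl) b'
    · refine ⟨swap i j * σ, fun k l hkl b => ?_⟩
      obtain ⟨b', hb'⟩ := ih k l hkl b
      rw [map_mul, MulAut.mul_apply, hb']
      exact hW i j hij 1 one_ne_zero _ _ (σ.injective.ne hkl) b'
  · rintro s (hs | ⟨i, j, -, -, hij, rfl⟩) y - ⟨σ, ih⟩
    · refine ⟨σ, fun k l hkl b => ?_⟩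
      obtain ⟨b', hb'⟩ := ih k l hkl b
      rw [map_mul, MulAut.mul_apply, hb']
      exact htor _ (inv_mem hs) _ _ (σ.injective.ne hkl) b'
    · refine ⟨swap i j * σ, fun k l hkl b => ?_⟩
      obtain ⟨b', hb'⟩ := ih k l hkl b
      rw [map_mul, MulAut.mul_apply, hb', ← S.w_neg hij]
      exact hW i j hij (-1) (by norm_num) _ _ (σ.injective.ne hkl) b'

/-- The subgroup of a set of roots. -/
def rootsGroup (_S : Full X ω) (P : Fin n → Fin n → Prop) : Subgroup G :=
  Subgroup.closure {g : G | ∃ i j a, i ≠ j ∧ P i j ∧ g = X i j a}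

theorem x_mem {P : Fin n → Fin n → Prop} {i j : Fin n} (hij : i ≠ j) (h : P i j) (a : F) :
    X i j a ∈ S.rootsGroup P := Subgroup.subset_closure ⟨i, j, a, hij, h, rfl⟩

/-- The positive unipotent subgroup. -/
def upper (S : Full X ω) : Subgroup G := S.rootsGroup fun i j => i < j

/-- The big set `U N U` is everything. -/
theorem bruhat (x : G) : ∃ u ∈ S.upper, ∃ m ∈ S.mono n, ∃ v ∈ S.upper, x = u * m * v := by
  let P : G → Prop := fun x => ∃ u ∈ S.upper, ∃ m ∈ S.mono n, ∃ v ∈ S.upper, x = u * m * v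
  let K := Subgroup.closure ((S.upper : Set G) ∪
    {g : G | ∃ i j : Fin n, i.val + 1 = j.val ∧ g = wEl X i j 1})
  have hU : S.upper ≤ K := fun _ h => Subgroup.subset_closure (Or.inl h)
  have hWgap : ∀ (d : ℕ) (i j : Fin n), i.val + d + 1 = j.val → wEl X i j 1 ∈ K := by
    intro d
    induction d with
    | zero => exact fun i j h => Subgroup.subset_closure (Or.inr ⟨i, j, by omega, rfl⟩)
    | succ d ih =>
      intro i j h
      set k : Fin n := ⟨j.val - 1, by omega⟩ with hk
      have hkv : k.val = j.val - 1 := rfl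
      have hik : i ≠ k := fun e => by rw [e] at h; omega
      have hkj : k ≠ j := fun e => by rw [e] at hkv; omega
      have hij : i ≠ j := fun e => by rw [e] at h; omega
      have h1 : wEl X k j 1 ∈ K := Subgroup.subset_closure (Or.inr ⟨k, j, by omega, rfl⟩)
      have h2 := mul_mem (mul_mem h1 (ih i k (by omega))) (inv_mem h1)
      rw [← MulAut.conj_apply, S.w_conj_w hkj hik one_ne_zero, swap_apply_left,
        swap_apply_of_ne_of_ne hik hij] at h2
      rwa [show wVec k j (1 : F) i / wVec k j 1 k * 1 = -1 by simp [wVec, hik, hij],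
        S.w_neg hij, inv_mem_iff] at h2
  have hK : K = ⊤ := by
    rw [← top_le_iff, ← S.gen, Subgroup.closure_le]
    rintro _ ⟨i, j, a, hij, rfl⟩
    rcases lt_or_gt_of_ne hij with h | h
    · exact hU (S.x_mem (P := fun i j => i < j) hij h a)
    · obtain ⟨d, hd⟩ : ∃ d, j.val + d + 1 = i.val := ⟨i.val - j.val - 1, by
        have : j.val < i.val := h
        omega⟩
      have h1 := hWgap d j i hd
      have h2 := mul_mem (mul_mem h1 (hU (S.x_mem (P := fun i j => i < j) hij.symm h (-a))))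
        (inv_mem h1)
      rw [← MulAut.conj_apply, S.w_conj hij.symm hij.symm one_ne_zero, swap_apply_left,
        swap_apply_right] at h2
      simpa [wVec, hij] using h2
  have hUl : ∀ u ∈ S.upper, ∀ x, P x → P (u * x) := by
    rintro u hu x ⟨u', hu', m, hm, v, hv, rfl⟩
    exact ⟨u * u', mul_mem hu hu', m, hm, v, hv, by group⟩
  have hW : ∀ i j : Fin n, i.val + 1 = j.val → ∀ x, P x → P (wEl X i j 1 * x) := by
    rintro i j hij' x ⟨u, hu, m, hm, v, hv, rfl⟩
    have hlt : i < j := by rw [Fin.lt_def]; omega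
    have hij : i ≠ j := hlt.ne
    let Q : Fin n → Fin n → Prop := fun k l => k < l ∧ ¬ (k = i ∧ l = j)
    let Xi : Subgroup G :=
      { carrier := Set.range (X i j)
        mul_mem' := by rintro _ _ ⟨a, rfl⟩ ⟨b, rfl⟩; exact ⟨a + b, S.add hij a b⟩
        one_mem' := ⟨0, S.zero hij⟩
        inv_mem' := by rintro _ ⟨a, rfl⟩; exact ⟨-a, S.neg hij a⟩ }
    have hnorm : Xi ≤ Subgroup.normalizer (S.rootsGroup Q : Set G) := by
      have key : ∀ a, S.rootsGroup Q ≤ (S.rootsGroup Q).comap (MulAut.conj (X i j a)).toMonoidHom := by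
        intro a
        refine (Subgroup.closure_le _).2 ?_
        rintro _ ⟨k, l, b, hkl, ⟨hk, hne⟩, rfl⟩
        show MulAut.conj (X i j a) (X k l b) ∈ S.rootsGroup Q
        by_cases h1 : j = k
        · subst h1
          rw [S.head hij hkl (hlt.trans hk).ne]
          refine mul_mem (S.x_mem (hlt.trans hk).ne ⟨hlt.trans hk, fun h => hkl h.2.symm⟩ _) ?_
          exact S.x_mem (P := Q) hkl ⟨hk, hne⟩ b
        by_cases h2 : i = l
        · subst h2
          rw [S.tail hij hkl (hk.trans hlt).ne]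
          refine mul_mem (S.x_mem (hk.trans hlt).ne ⟨hk.trans hlt, fun h => hkl h.1⟩ _) ?_
          exact S.x_mem (P := Q) hkl ⟨hk, hne⟩ b
        rw [S.fix hij hkl h1 h2]
        exact S.x_mem (P := Q) hkl ⟨hk, hne⟩ b
      rintro _ ⟨a, rfl⟩
      refine Subgroup.mem_normalizer_iff.2 fun g => ⟨fun hg => key a hg, fun hg => ?_⟩
      have h3 : MulAut.conj (X i j (-a)) (X i j a * g * (X i j a)⁻¹) ∈ S.rootsGroup Q := key (-a) hg
      rw [S.neg hij, MulAut.conj_apply] at h3
      simpa [mul_assoc] using h3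
    have hle : S.upper ≤ S.rootsGroup Q ⊔ Xi := by
      refine (Subgroup.closure_le _).2 ?_
      rintro _ ⟨k, l, b, hkl, hk, rfl⟩
      by_cases h : k = i ∧ l = j
      · obtain ⟨rfl, rfl⟩ := h
        exact Subgroup.mem_sup_right ⟨b, rfl⟩
      · exact Subgroup.mem_sup_left (S.x_mem (P := Q) hkl ⟨hk, h⟩ b)
    have hu' := hle hu
    rw [← SetLike.mem_coe, Subgroup.coe_mul_of_right_le_normalizer_left _ _ hnorm] at hu'
    obtain ⟨u₁, hu₁, _, ⟨a, rfl⟩, rfl⟩ := hu'
    have hu₁' : MulAut.conj (wEl X i j 1) u₁ ∈ S.upper := by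
      have : S.rootsGroup Q ≤ S.upper.comap (MulAut.conj (wEl X i j 1)).toMonoidHom := by
        refine (Subgroup.closure_le _).2 ?_
        rintro _ ⟨k, l, b, hkl, ⟨hk, hne⟩, rfl⟩
        show MulAut.conj _ _ ∈ S.upper
        rw [S.w_conj hij hkl one_ne_zero]
        refine S.x_mem (P := fun i j => i < j) ((swap i j).injective.ne hkl) ?_ _
        rw [Fin.lt_def] at hk ⊢
        by_cases h1 : k = i
        · subst h1
          have hlj : l ≠ j := fun h => hne ⟨rfl, h⟩
          have : l.val ≠ j.val := Fin.val_ne_of_ne hlj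
          rw [swap_apply_left, swap_apply_of_ne_of_ne hkl.symm hlj]
          omega
        by_cases h2 : k = j
        · subst h2
          have hli : l ≠ i := fun h => by rw [h] at hk; omega
          rw [swap_apply_right, swap_apply_of_ne_of_ne hli hkl.symm]
          omega
        rw [swap_apply_of_ne_of_ne h1 h2]
        have : k.val ≠ i.val := Fin.val_ne_of_ne h1
        by_cases h3 : l = i
        · subst h3; rw [swap_apply_left]; omega
        by_cases h4 : l = j
        · subst h4; rw [swap_apply_right]; omega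
        rwa [swap_apply_of_ne_of_ne h3 h4]
      exact this hu₁
    refine (show P (MulAut.conj (wEl X i j 1) u₁ * (wEl X i j 1 * X i j a * m * v)) → P _ from fun h => ?_)
      (hUl _ hu₁' _ ?_)
    · rw [MulAut.conj_apply] at h
      simpa [mul_assoc] using h
    obtain ⟨σ, hσ⟩ := S.mono_conj (inv_mem hm)
    have hWn : wEl X i j 1 ∈ S.mono n := S.w1_mem i.isLt j.isLt hij
    rcases eq_or_ne a 0 with rfl | ha
    · rw [S.zero hij, mul_one]
      exact ⟨1, one_mem _, _, mul_mem hWn hm, v, hv, by group⟩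
    rcases lt_or_gt_of_ne (σ.injective.ne hij) with hpos | hneg
    · obtain ⟨a', ha'⟩ := hσ i j hij a
      refine ⟨1, one_mem _, _, mul_mem hWn hm, X (σ i) (σ j) a' * v,
        mul_mem (S.x_mem (P := fun i j => i < j) hpos.ne hpos a') hv, ?_⟩
      rw [← ha', MulAut.conj_apply]
      group
    · -- the negative root element is `x w x`
      have hb : -a ≠ 0 := neg_ne_zero.2 ha
      have hc : X j i (-a) = X i j (-(-(-a)⁻¹)) * wEl X i j (-(-a)⁻¹) * X i j (-(-(-a)⁻¹)) := by
        rw [wEl, show -(-(-a)⁻¹)⁻¹ = -a by simp, S.neg hij (-(-a)⁻¹)]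
        group
      set c := -(-a)⁻¹ with hcdef
      have hc0 : c ≠ 0 := by simp [hcdef, ha]
      have h1 : MulAut.conj (wEl X i j 1) (X i j a) = X j i (-a) := by
        rw [S.w_conj hij hij one_ne_zero, swap_apply_left, swap_apply_right]
        simp [wVec, hij.symm]
      have h2 : MulAut.conj (wEl X i j 1)⁻¹ (X i j (-c)) = X j i c := by
        rw [← S.w_neg hij, S.w_conj hij hij (by norm_num), swap_apply_left, swap_apply_right]
        simp [wVec, hij.symm]
      obtain ⟨c', hc'⟩ := hσ j i hij.symm c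
      refine ⟨X i j (-c), S.x_mem (P := fun i j => i < j) hij hlt _,
        wEl X i j c * wEl X i j 1 * m, mul_mem (mul_mem (S.w_mem (S.torus_le_mono n) hij hc0 hWn) hWn) hm,
        X (σ j) (σ i) c' * v, mul_mem (S.x_mem (P := fun i j => i < j) hneg.ne hneg c') hv, ?_⟩
      rw [← hc', ← h2]
      have e : wEl X i j 1 * X i j a =
          X i j (-c) * wEl X i j c * X i j (-c) * wEl X i j 1 := by
        rw [← hc, ← h1, MulAut.conj_apply]; group
      simp only [MulAut.conj_apply]
      rw [e]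
      group
  have key : ∀ x ∈ K, P x := by
    intro x hx
    refine Subgroup.closure_induction_left (p := fun x _ => P x)
      ⟨1, one_mem _, 1, one_mem _, 1, one_mem _, by group⟩ ?_ ?_ hx
    · rintro s (hs | ⟨i, j, hij, rfl⟩) y - ih
      · exact hUl s hs y ih
      · exact hW i j hij y ih
    · rintro s (hs | ⟨i, j, hij, rfl⟩) y - ih
      · exact hUl _ (inv_mem hs) y ih
      · have hij' : i ≠ j := fun e => by rw [e] at hij; omega
        obtain ⟨u, hu, m, hm, v, hv, e⟩ := hW i j hij y ih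
        rw [S.w_inv hij', mul_assoc, e]
        set t := hEl X i j (-1) with ht
        have htT : t ∈ S.torus := S.h_mem hij' (by norm_num)
        refine ⟨MulAut.conj t u, ?_, t * m, mul_mem (S.torus_le_mono n htT) hm, v, hv, by
          rw [MulAut.conj_apply]; group⟩
        have : S.upper ≤ S.upper.comap (MulAut.conj t).toMonoidHom := by
          refine (Subgroup.closure_le _).2 ?_
          rintro _ ⟨k, l, b, hkl, hk, rfl⟩
          show MulAut.conj t (X k l b) ∈ S.upper
          rw [ht, S.h_conj hij' hkl (by norm_num)]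
          exact S.x_mem (P := fun i j => i < j) hkl hk _
        exact this hu
  exact key x (hK ▸ Subgroup.mem_top x)

end Full

end CfsgLib.SLPresent
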